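import Cfsg.Agent.Lib.U62Aut.Red.Build
import Cfsg.Agent.Lib.U62Aut.Red.Isolated

/-!
With a vector fixed by the inner automorphisms, the involution commutes with none of its other conjugates.
-/

set_option autoImplicit false
set_option linter.style.haveILetI false
set_option linter.unusedSectionVars false

namespace Cfsg.Agent.U62Aut.ASpace

open Subgroup LargeExtra U62Rec.Model U62Rec.Model.Forced
open scoped commutatorElement

universe u

variable {G : Type u} [Group G] [Finite G] {z : G} {V : Type u} [AddCommGroup V] (S : ASpace z V)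

include S

/-- The commutator with an element of the centralizer in the space. -/
theorem π_comm (g : ↥(centralizer ({z} : Set G))) {a : G} (ha : a ∈ coreAt z) :
    S.π ⁅(g : G), a⁆ = S.ρ (S.χ g) (S.π a) + S.π a := by
  rw [commutatorElement_def, S.mul _ (LargeExtra.conj_mem (coreAt_normal z g.2) ha) _ (inv_mem ha), S.π_inv ha,
    ← S.ρ_π g a ha]

theorem comm_mem_zpowers (g : ↥(centralizer ({z} : Set G))) {a : G} (ha : a ∈ coreAt z) :
    ⁅(g : G), a⁆ ∈ zpowers z ↔ S.ρ (S.χ g) (S.π a) + S.π a = 0 := by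
  have hm : ⁅(g : G), a⁆ ∈ coreAt z := by
    rw [commutatorElement_def]
    exact mul_mem (LargeExtra.conj_mem (coreAt_normal z g.2) ha) (inv_mem ha)
  rw [← S.π_comm g ha, S.π_eq_zero hm, S.xs.toXSub.mem_zpowers_iff]

/-- Two distinct non-zero vectors of the fixed plane. -/
theorem Planes.zero_cases {u : Fin 3 → V} (P : Planes S u) {v w : V} (hv : v ∈ U S.gen 0) (hw : w ∈ U S.gen 0)
    (hv0 : v ≠ 0) (hw0 : w ≠ 0) (hne : v ≠ w) :
    S.B v w = 1 ∧ ∀ x ∈ U S.gen 0, x = 0 ∨ x = v ∨ x = w ∨ x = v + w := by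
  haveI := S.finite
  have e3 : v + w ≠ 0 := fun e => hne (by rw [add_eq_zero_iff_eq_neg, S.neg_eq] at e; exact e)
  have hset : ({0, v, w, v + w} : Set V) = (U S.gen 0 : Set V) := by
    refine Set.eq_of_subset_of_ncard_le ?_ ?_
    · rintro x (rfl | rfl | rfl | rfl)
      exacts [zero_mem _, hv, hw, add_mem hv hw]
    · have h4 : (U S.gen 0 : Set V).ncard = 4 := P.card_zero
      rw [h4, Set.ncard_insert_of_notMem (by simp [Ne.symm hv0, Ne.symm hw0, Ne.symm e3]),
        Set.ncard_insert_of_notMem (by simp [hne, hw0]), Set.ncard_pair (by simp [hv0])]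
  have hall : ∀ x ∈ U S.gen 0, x = 0 ∨ x = v ∨ x = w ∨ x = v + w := fun x hx => by
    have : x ∈ ({0, v, w, v + w} : Set V) := by rw [hset]; exact hx
    exact this
  refine ⟨(z2_cases _).resolve_left fun h0 => ?_, hall⟩
  obtain ⟨x, hx, hb⟩ := P.nd_zero hv hv0
  rcases hall x hx with rfl | rfl | rfl | rfl
  · exact hb (S.B_zero _)
  · exact hb (S.B_self _)
  · exact hb h0
  · exact hb (by rw [S.B_add, S.B_self, h0, add_zero])

set_option maxHeartbeats 400000 in
/-- An involution outside the core all whose commutators have non-trivial square outside the centre. -/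
theorem wit (u : G) (hu : Commute z u) (hu2 : u * u = 1) (huJ : u ∉ coreAt z)
    (hno : ∀ a ∈ coreAt z, ⁅u, a⁆ * ⁅u, a⁆ = 1 → ⁅u, a⁆ ∈ zpowers z) :
    (∃ w ∈ coreAt z, Commute u w ∧ w * w = z) ∧ ∀ w : G, Commute z w → w * w * u ∉ coreAt z := by
  haveI := S.finite
  let ug : ↥(centralizer ({z} : Set G)) := ⟨u, mem_centralizer_one.2 hu.eq.symm⟩
  set x := S.χ ug with hx
  have hxx : x * x = 1 := by
    rw [hx, ← map_mul, show ug * ug = 1 from Subtype.ext hu2, map_one]
  have hinv : ∀ v, S.ρ x (S.ρ x v) = v := fun v => by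
    show (S.ρ x * S.ρ x) v = v
    rw [← map_mul, hxx, map_one]
    rfl
  let δ : V → V := fun v => S.ρ x v + v
  have hδ : ∀ v w, δ (v + w) = δ v + δ w := fun v w => by simp only [δ, map_add]; abel
  have hδ0 : ∀ v, S.q (δ v) = 0 → δ v = 0 := by
    intro v h
    obtain ⟨a, ha, rfl⟩ := S.surj v
    have hm : ⁅u, a⁆ ∈ coreAt z := by
      rw [commutatorElement_def]
      exact mul_mem (LargeExtra.conj_mem (coreAt_normal z ug.2) ha) (inv_mem ha)
    have e : S.π ⁅u, a⁆ = δ (S.π a) := S.π_comm ug ha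
    exact (S.comm_mem_zpowers ug ha).1 (hno a ha ((S.q_sq hm).1 (e ▸ h)))
  have hiso : ∀ v w, S.B (δ v) (δ w) = 0 := fun v w => by
    have e : ∀ a b, S.B a (S.ρ x b) = S.B (S.ρ x a) b := fun a b => by
      conv_lhs => rw [← hinv a]
      exact S.B_inv x _ _
    simp only [δ, S.hB, S.B_add, S.B_inv, ← e]
    rw [add_add_add_comm, add_comm (S.B v w), two_zero]
  have hline : ∀ v w, δ v ≠ 0 → δ w ≠ 0 → δ v = δ w := by
    intro v w hv hw
    have h1 := hδ0 (v + w) (by
      rw [hδ, S.hq, hiso, (z2_cases _).resolve_left fun h => hv (hδ0 v h),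
        (z2_cases _).resolve_left fun h => hw (hδ0 w h)]
      decide)
    rw [hδ, add_eq_zero_iff_eq_neg, S.neg_eq] at h1
    exact h1
  refine ⟨?_, ?_⟩
  · by_contra hcon
    push Not at hcon
    let K : AddSubgroup V :=
      { carrier := {v | δ v = 0}
        zero_mem' := by simp [δ]
        add_mem' := fun {a b} ha hb => by
          show δ (a + b) = 0
          rw [hδ, (ha : δ a = 0), (hb : δ b = 0), add_zero]
        neg_mem' := fun {a} ha => by show δ (-a) = 0; rw [S.neg_eq]; exact ha }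
    let K' : AddSubgroup V :=
      { carrier := {v | ∃ a ∈ coreAt z, Commute u a ∧ S.π a = v}
        zero_mem' := ⟨1, one_mem _, Commute.one_right u, S.π_one⟩
        add_mem' := fun {v w} ⟨a, ha, ha', ea⟩ ⟨b, hb, hb', eb⟩ =>
          ⟨a * b, mul_mem ha hb, ha'.mul_right hb', by rw [S.mul a ha b hb, ea, eb]⟩
        neg_mem' := fun {v} h => by rw [S.neg_eq]; exact h }
    have hK'K : K' ≤ K := by
      rintro _ ⟨a, ha, hau, rfl⟩
      show S.ρ x (S.π a) + S.π a = 0
      rw [S.ρ_π ug a ha, show (ug : G) * a * (ug : G)⁻¹ = a from mul_inv_eq_iff_eq_mul.2 hau.eq, S.char]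
    have h1 : Nat.card (⊤ : AddSubgroup V) ≤ Nat.card K * 2 := S.card_le_two K ⊤ fun v _ w _ hv hw => by
      show δ (v + w) = 0
      rw [hδ, hline v w hv hw, S.char]
    have h2 : Nat.card K ≤ Nat.card K' * 2 := S.card_le_two K' K fun v hv w hw hv' hw' => by
      obtain ⟨a, ha, rfl⟩ := S.surj v
      obtain ⟨b, hb, rfl⟩ := S.surj w
      have key : ∀ c ∈ coreAt z, S.π c ∈ K → S.π c ∉ K' → u * c * u⁻¹ = c * z := fun c hc hcK hcK' => by
        have hm : ⁅u, c⁆ ∈ zpowers z := (S.comm_mem_zpowers ug hc).2 hcK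
        rw [commutatorElement_def] at hm
        rcases S.xs.toXSub.mem_zpowers_iff.1 hm with h | h
        · exact absurd ⟨c, hc, mul_inv_eq_iff_eq_mul.1 (mul_inv_eq_one.1 h), rfl⟩ hcK'
        · rw [mul_inv_eq_iff_eq_mul] at h
          rw [h, S.xs.toXSub.comm hc]
      refine ⟨a * b, mul_mem ha hb, mul_inv_eq_iff_eq_mul.1 ?_, S.mul a ha b hb⟩
      rw [show u * (a * b) * u⁻¹ = (u * a * u⁻¹) * (u * b * u⁻¹) by group, key a ha hv hv', key b hb hw hw',
        show a * z * (b * z) = a * (z * b) * z by group, ← S.xs.toXSub.comm hb,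
        show a * (b * z) * z = a * b * (z * z) by group, S.xs.toXSub.sq, mul_one]
    have hq0 : ∀ v ∈ K', S.q v = 0 := by
      rintro _ ⟨a, ha, hau, rfl⟩
      exact (S.q_sq ha).2 ((S.xs.toXSub.sq_cases ha).resolve_right fun h => hcon a ha hau h)
    obtain ⟨n, hn, hle⟩ := S.iso_small ⊤ K' le_top
      (fun v _ h => (S.hnd v h).elim fun w hw => ⟨w, AddSubgroup.mem_top w, hw⟩)
      (fun v hv w hw => by
        have h := S.hq v w
        rw [hq0 v hv, hq0 w hw, hq0 _ (K'.add_mem hv hw), add_zero, zero_add] at h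
        exact h.symm)
    rw [AddSubgroup.card_top, S.cardV] at h1 hn
    have h64 : 64 ≤ Nat.card K' := by omega
    have hn4 : n ≤ 4 := by nlinarith
    have : 2 ^ n ≤ 2 ^ 4 := Nat.pow_le_pow_right (by norm_num) hn4
    omega
  · intro w hw hmem
    let wg : ↥(centralizer ({z} : Set G)) := ⟨w, mem_centralizer_one.2 hw.eq.symm⟩
    set y := S.χ wg with hy
    have hyx : y * y = x := by
      have h1 : S.χ (wg * wg * ug) = 1 := (S.χ_eq_one _).2 hmem
      rw [map_mul, map_mul, ← hy, ← hx, mul_eq_one_iff_eq_inv, inv_eq_of_mul_eq_one_right hxx] at h1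
      exact h1
    have hyy : ∀ v, S.ρ y (S.ρ y v) = S.ρ x v := fun v => by
      show (S.ρ y * S.ρ y) v = _
      rw [← map_mul, hyx]
    obtain ⟨v₀, hv₀⟩ : ∃ v, δ v ≠ 0 := by
      by_contra h
      push Not at h
      refine huJ ((S.χ_eq_one ug).1 (S.ρ_inj ((DFunLike.ext _ _ fun v => ?_).trans (map_one S.ρ).symm)))
      have h' := h v
      simp only [δ] at h'
      rw [add_eq_zero_iff_eq_neg, S.neg_eq] at h'
      exact h'
    have hxy : ∀ v, S.ρ x (S.ρ y v) = S.ρ y (S.ρ x v) := fun v => by rw [← hyy, ← hyy]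
    have hc1 : δ (S.ρ y v₀) = S.ρ y (δ v₀) := by simp only [δ, map_add, hxy]
    have hyc : S.ρ y (δ v₀) = δ v₀ := by
      have hne : δ (S.ρ y v₀) ≠ 0 := by
        rw [hc1]
        intro h
        have := congrArg (S.ρ y⁻¹) h
        rw [S.ρ_inv, map_zero] at this
        exact hv₀ this
      rw [← hc1]
      exact hline _ _ hne hv₀
    have hB1 : S.B v₀ (δ v₀) = 1 := by
      have h := (z2_cases _).resolve_left fun h => hv₀ (hδ0 v₀ h)
      simp only [δ] at h ⊢
      rw [S.hq, S.q_inv, two_zero, zero_add, S.B_symm] at h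
      rw [S.B_add, S.B_self, add_zero, h]
    have h0 : S.B (S.ρ y v₀) (δ v₀) = 1 := by
      conv_lhs => rw [← hyc]
      rw [S.B_inv, hB1]
    set d := S.ρ y v₀ + v₀ with hd
    have e : δ v₀ = S.ρ y d + d := by
      simp only [δ, hd, map_add, hyy]
      rw [add_assoc, ← add_assoc (S.ρ y v₀), S.char, zero_add]
    rw [e, S.B_add, S.B_inv, ← S.hB, add_comm v₀, ← hd, S.B_self] at h0
    exact zero_ne_one h0

set_option maxHeartbeats 800000 in
/-- The facts in the second shape. -/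
theorem red {u : Fin 3 → V} (P : Planes S u) : Nonempty (Red z) := by
  haveI := S.finite
  have hmem : ∀ {g : G}, Commute z g → g ∈ centralizer ({z} : Set G) := fun h => mem_centralizer_one.2 h.eq.symm
  let T : Subgroup G :=
    { carrier := {a | a ∈ coreAt z ∧ S.π a ∈ U S.gen 0}
      one_mem' := ⟨one_mem _, by rw [S.π_one]; exact zero_mem _⟩
      mul_mem' := fun {a b} ha hb => ⟨mul_mem ha.1 hb.1, by rw [S.mul a ha.1 b hb.1]; exact add_mem ha.2 hb.2⟩
      inv_mem' := fun {a} ha => ⟨inv_mem ha.1, by rw [S.π_inv ha.1]; exact ha.2⟩ }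
  have hperp : ∀ a ∈ coreAt z, (∀ t ∈ T, Commute t a) → S.π a ∈ P.perp := fun a ha h w hw => by
    obtain ⟨t, ht, rfl⟩ := S.surj w
    exact (S.B_commute ht ha).2 (h t ⟨ht, hw⟩)
  have hne : ∀ a ∈ coreAt z, a ∉ T → S.π a ≠ 0 := fun a ha h e => h ⟨ha, by rw [e]; exact zero_mem _⟩
  have hχ : ∀ (r : ↥(centralizer ({z} : Set G))), (r : G) ^ 5 = 1 → r ≠ 1 → S.χ r ^ 5 = 1 ∧ S.χ r ≠ 1 := by
    intro r h5 h1
    refine ⟨by rw [← map_pow, show r ^ 5 = 1 from Subtype.ext h5, map_one], fun h => h1 (Subtype.ext ?_)⟩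
    have hr : (r : G) ∈ coreAt z := (S.χ_eq_one r).1 h
    rw [coe_one, ← orderOf_eq_one_iff]
    refine Nat.eq_one_of_dvd_coprimes (show Nat.Coprime 5 512 by norm_num) (orderOf_dvd_of_pow_eq_one h5) ?_
    exact S.card ▸ orderOf_dvd_natCard (coreAt z) hr
  have hfixπ : ∀ (g : ↥(centralizer ({z} : Set G))) (a : G), a ∈ coreAt z → Commute a g →
      S.ρ (S.χ g) (S.π a) = S.π a := fun g a ha h => by
    rw [S.ρ_π g a ha, h.symm.eq, mul_inv_cancel_right]
  refine ⟨{ xs := S.xs, card := S.card, T := T, T_le := fun a ha => ha.1,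
            z_mem := ⟨S.xs.toXSub.mem, by rw [S.π_z]; exact zero_mem _⟩,
            T_norm := fun t ht g hg => ⟨LargeExtra.conj_mem (coreAt_normal z (hmem hg)) ht.1, by
              have h := S.ρ_π ⟨g, hmem hg⟩ t ht.1
              show S.π (g * t * g⁻¹) ∈ U S.gen 0
              rw [← show S.ρ (S.χ ⟨g, hmem hg⟩) (S.π t) = S.π (g * t * g⁻¹) from h]
              exact P.inv_zero _ _ ht.2⟩,
            T_sq := ?_, T_one := ?_,
            T_noncomm := ?_, faithful := ?_, five := ?_, five_fix := ?_, five_triv := ?_, five_elem := ?_,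
            two := ?_, wit := fun u hu h2 hJ hno => S.wit u hu h2 hJ hno }⟩
  · -- T_sq
    intro t ht g hg
    by_cases hv : S.ρ (S.χ ⟨g, hmem hg⟩) (S.π t) = S.π t
    · exact (S.conj_cases_of_fix ⟨g, hmem hg⟩ ht.1 hv).imp id Or.inl
    refine Or.inr (Or.inr ?_)
    have hm : g * t * g⁻¹ ∈ coreAt z := LargeExtra.conj_mem (coreAt_normal z (hmem hg)) ht.1
    set w := S.ρ (S.χ ⟨g, hmem hg⟩) (S.π t) with hw
    have hwU : w ∈ U S.gen 0 := P.inv_zero _ _ ht.2
    have ht0 : S.π t ≠ 0 := fun e => hv (by rw [hw, e, map_zero])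
    have hw0 : w ≠ 0 := fun e => ht0 (by
      have h := S.ρ_inv (S.χ ⟨g, hmem hg⟩) (S.π t)
      rw [← hw, e, map_zero] at h
      exact h.symm)
    have hq : S.q (S.π (g * t * g⁻¹ * t⁻¹)) = 1 := by
      rw [S.mul _ hm _ (inv_mem ht.1), S.π_inv ht.1, show S.π (g * t * g⁻¹) = w from (S.ρ_π ⟨g, hmem hg⟩ t ht.1).symm,
        S.hq, (Planes.zero_cases S P hwU ht.2 hw0 ht0 hv).1, hw, S.q_inv, two_zero, zero_add]
    refine (S.xs.toXSub.sq_cases (mul_mem hm (inv_mem ht.1))).resolve_left fun h => ?_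
    rw [(S.q_sq (mul_mem hm (inv_mem ht.1))).2 h] at hq
    exact zero_ne_one hq
  · -- T_one
    intro g hg t ht h1 hz h2 he s hs
    refine S.conj_cases_of_fix ⟨g, hmem hg⟩ hs.1 ?_
    have hv0 : S.π t ≠ 0 := fun e => ((S.π_eq_zero ht.1).1 e).elim h1 hz
    have hq : S.q (S.π t) = 0 := (S.q_sq ht.1).2 h2
    have hv : S.ρ (S.χ ⟨g, hmem hg⟩) (S.π t) = S.π t := by
      rw [S.ρ_π ⟨g, hmem hg⟩ t ht.1, eq_comm,
        S.eq_iff t ht.1 _ (LargeExtra.conj_mem (coreAt_normal z (hmem hg)) ht.1)]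
      exact he
    by_cases hw0 : S.π s = 0
    · rw [hw0, map_zero]
    by_cases hwv : S.π s = S.π t
    · rw [hwv, hv]
    obtain ⟨hB, hall⟩ := Planes.zero_cases S P ht.2 hs.2 hv0 hw0 (Ne.symm hwv)
    set x := S.χ ⟨g, hmem hg⟩ with hx
    have hinj : ∀ {a b : V}, S.ρ x a = S.ρ x b → a = b := fun {a b} h => by
      have := congrArg (S.ρ x⁻¹) h
      rwa [S.ρ_inv, S.ρ_inv] at this
    rcases hall _ (P.inv_zero x _ hs.2) with e | e | e | e
    · exact absurd (hinj (e.trans (map_zero _).symm)) hw0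
    · exact absurd (hinj (e.trans hv.symm)) hwv
    · exact e
    · have h := congrArg S.q e
      rw [S.q_inv, S.hq, hq, hB, zero_add] at h
      exact absurd h (by revert h; rcases z2_cases (S.q (S.π s)) with e | e <;> rw [e] <;> decide)
  · -- T_noncomm
    obtain ⟨w, hw, hw0⟩ : ∃ w ∈ U S.gen 0, w ≠ 0 := by
      by_contra h
      push Not at h
      have h1 : Nat.card ↥(U S.gen 0) ≤ 1 := Finite.card_le_one_iff_subsingleton.2
        ⟨fun a b => Subtype.ext ((h _ a.2).trans (h _ b.2).symm)⟩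
      rw [P.card_zero] at h1
      omega
    obtain ⟨w', hw', hb⟩ := P.nd_zero hw hw0
    obtain ⟨s, hs, rfl⟩ := S.surj w
    obtain ⟨t, ht, rfl⟩ := S.surj w'
    refine ⟨s, ⟨hs, hw⟩, t, ⟨ht, hw'⟩, (S.xs.toXSub.conj_cases hs ht).resolve_left fun e => hb ?_⟩
    exact (S.B_commute hs ht).2 (mul_inv_eq_iff_eq_mul.1 e)
  · -- faithful
    intro g hg h
    refine (S.χ_eq_one ⟨g, hmem hg⟩).1 (S.ρ_inj ((DFunLike.ext _ _ fun v => ?_).trans (map_one S.ρ).symm))
    obtain ⟨a, ha, rfl⟩ := S.surj v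
    have := (S.comm_mem_zpowers ⟨g, hmem hg⟩ ha).1 (h a ha)
    rw [add_eq_zero_iff_eq_neg, S.neg_eq] at this
    exact this
  · -- five
    intro a ha haT h2 hc
    obtain ⟨x, hx, hxv⟩ := P.exists_five (hperp a ha hc) (hne a ha haT) ((S.q_sq ha).2 h2)
    obtain ⟨g, rfl⟩ := S.χ_surj x
    have hg5 : (g : G) ^ 5 ∈ coreAt z :=
      (S.χ_eq_one (g ^ 5)).1 (by rw [map_pow, ← hx, pow_orderOf_eq_one])
    have h512 : ((g : G) ^ 5) ^ 512 = 1 := orderOf_dvd_iff_pow_eq_one.1 (S.card ▸ orderOf_dvd_natCard (coreAt z) hg5)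
    have hgz : (g : G) * z * (g : G)⁻¹ = z := by rw [mem_centralizer_one.1 g.2, mul_inv_cancel_right]
    have hg2 : Commute ((g : G) ^ 2) a := by
      refine mul_inv_eq_iff_eq_mul.1 ?_
      rw [show (g : G) ^ 2 * a * ((g : G) ^ 2)⁻¹ = g * ((g : G) * a * (g : G)⁻¹) * (g : G)⁻¹ by
        rw [pow_two]; group]
      rcases S.conj_cases_of_fix g ha hxv with e | e <;> rw [e]
      · exact e
      · rw [show (g : G) * (a * z) * (g : G)⁻¹ = g * a * (g : G)⁻¹ * (g * z * (g : G)⁻¹) by group, e, hgz,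
          mul_assoc, S.xs.toXSub.sq, mul_one]
    refine ⟨(g : G) ^ 1536, (mem_centralizer_one.1 (pow_mem g.2 1536)).symm, ?_, ?_, fun h => ?_⟩
    · rw [show 1536 = 2 * 768 from rfl, pow_mul]
      exact (hg2.pow_left 768).symm
    · rw [← pow_mul, show 1536 * 5 = 5 * 512 * 3 from rfl, pow_mul, pow_mul, h512, one_pow]
    · have h1 : S.χ g ^ 1536 = 1 := by
        rw [← map_pow, show g ^ 1536 = 1 from Subtype.ext h, map_one]
      have := orderOf_dvd_of_pow_eq_one h1
      rw [hx] at this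
      norm_num at this
  · -- five_fix
    intro r hr h5 h1
    obtain ⟨h5', h1'⟩ := hχ ⟨r, hmem hr⟩ h5 fun h => h1 (congrArg Subtype.val h)
    have h16 := P.card_fix (S.χ ⟨r, hmem hr⟩) (five_inner h5')
    rw [P.card_fix_five h5' h1'] at h16
    choose sec hsec hsecπ using S.surj
    let f : ↥(S.fixS (S.χ ⟨r, hmem hr⟩)) × Bool → ↥(coreAt z ⊓ centralizer ({r} : Set G)) := fun p =>
      ⟨sec p.1 * (if p.2 then z else 1),
        mul_mem (hsec _) (by split_ifs; exacts [S.xs.toXSub.mem, one_mem _]), by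
        refine mem_centralizer_one.2 (Commute.mul_left ?_ ?_)
        · exact (S.lift_fix ⟨r, hmem hr⟩ (by decide : Odd 5) h5 (hsec _) (by rw [hsecπ]; exact p.1.2)).symm
        · by_cases h : p.2 = true <;> simp [h, hr]⟩
    refine le_trans ?_ (Nat.card_le_card_of_injective f fun a b e => ?_)
    · rw [Nat.card_prod, h16]; simp
    · have e' := congrArg (fun s : ↥(coreAt z ⊓ centralizer ({r} : Set G)) => (s : G)) e
      simp only [f] at e'
      have h3 : (a.1 : V) = b.1 := by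
        have hm : ∀ (p : ↥(S.fixS (S.χ ⟨r, hmem hr⟩)) × Bool),
            S.π (sec p.1 * (if p.2 then z else 1)) = p.1 := fun p => by
          rw [S.mul _ (hsec _) _ (by split_ifs; exacts [S.xs.toXSub.mem, one_mem _]), hsecπ]
          by_cases h : p.2 = true <;> simp [h, S.π_one, S.π_z]
        rw [← hm a, ← hm b, e']
      have h4 : a.1 = b.1 := Subtype.ext h3
      rw [h4] at e'
      refine Prod.ext h4 ?_
      have h5 := mul_left_cancel e'
      revert h5
      cases a.2 <;> cases b.2 <;> simp [S.xs.toXSub.ne_one, Ne.symm S.xs.toXSub.ne_one]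
  · -- five_triv
    intro a ha haT h2 hc r hr har h5 h1 e he hre hae h4
    obtain ⟨h5', h1'⟩ := hχ ⟨r, hmem hr⟩ h5 fun h => h1 (congrArg Subtype.val h)
    refine (S.χ_eq_one ⟨e, hmem he⟩).1 (P.two_triv h5' h1' ?_ ?_ (hperp a ha hc) (hne a ha haT) ((S.q_sq ha).2 h2)
      (hfixπ ⟨r, hmem hr⟩ a ha har) (hfixπ ⟨e, hmem he⟩ a ha hae))
    · rw [← map_pow, show (⟨e, hmem he⟩ : ↥(centralizer ({z} : Set G))) ^ 4 = 1 from Subtype.ext h4, map_one]
    · exact (show Commute (⟨r, hmem hr⟩ : ↥(centralizer ({z} : Set G))) ⟨e, hmem he⟩ from Subtype.ext hre).map S.χ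
  · -- five_elem
    intro r hr h5 h1 W hW hWs
    obtain ⟨h5', h1'⟩ := hχ ⟨r, hmem hr⟩ h5 fun h => h1 (congrArg Subtype.val h)
    let I : AddSubgroup V :=
      { carrier := {v | ∃ a ∈ W, S.π a = v}
        zero_mem' := ⟨1, one_mem _, S.π_one⟩
        add_mem' := fun {v w} ⟨a, ha, ea⟩ ⟨b, hb, eb⟩ =>
          ⟨a * b, mul_mem ha hb, by rw [S.mul a (hW ha) b (hW hb), ea, eb]⟩
        neg_mem' := fun {v} h => by rw [S.neg_eq]; exact h }
    have hfz : ∀ w ∈ U S.gen 0, S.ρ (S.χ ⟨r, hmem hr⟩) w = w := fun w hw => by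
      obtain ⟨x₀, hx₀⟩ := five_inner h5'
      rw [← hx₀]
      exact P.fix_zero x₀ w hw
    set M := S.fixS (S.χ ⟨r, hmem hr⟩) with hM
    have hM16 : Nat.card M = 16 := by rw [hM, P.card_fix _ (five_inner h5'), P.card_fix_five h5' h1']
    obtain ⟨n, hn, hle⟩ := S.iso_small M I (by
        rintro _ ⟨a, ha, rfl⟩
        exact hfixπ ⟨r, hmem hr⟩ a (hW ha) (hWs a ha).2.symm)
      (fun v hv h0 => by
        obtain ⟨t, ht⟩ := S.hnd v h0
        obtain ⟨av, avP, -, avB, -⟩ := P.average h5'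
        obtain ⟨c, w, hw, rfl⟩ := P.decomp t
        refine ⟨av (S.psi u c) + w, M.add_mem (avP _ (P.mem_perp.2 ⟨c, rfl⟩)).2 (hfz w hw), ?_⟩
        rwa [S.B_add, avB v hv, ← S.B_add])
      (by
        rintro _ ⟨a, ha, rfl⟩ _ ⟨b, hb, rfl⟩
        refine (S.B_commute (hW ha) (hW hb)).2 ?_
        have h2 := (hWs _ (mul_mem ha hb)).1
        rw [mul_eq_one_iff_eq_inv, mul_inv_rev, inv_eq_of_mul_eq_one_right (hWs a ha).1,
          inv_eq_of_mul_eq_one_right (hWs b hb).1] at h2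
        exact h2)
    rw [hM16] at hn
    have hI4 : Nat.card I ≤ 4 := by
      by_contra h
      push Not at h
      have : n ≤ 3 := by nlinarith
      interval_cases n <;> simp at hn hle <;> omega
    have hcard : Nat.card W ≤ Nat.card I * 2 := by
      classical
      choose sec hsec hsecπ using fun v : ↥I => v.2
      let f : ↥W → ↥I × Bool := fun w =>
        (⟨S.π w, w, w.2, rfl⟩, decide ((w : G) = sec ⟨S.π w, w, w.2, rfl⟩))
      refine (Nat.card_le_card_of_injective f fun a b e => ?_).trans_eq (by simp)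
      have e1 : S.π (a : G) = S.π (b : G) := congrArg (fun p : ↥I × Bool => (p.1 : V)) e
      have e2 := congrArg Prod.snd e
      simp only [f, e1, decide_eq_decide] at e2
      set w₀ := sec ⟨S.π (b : G), b, b.2, rfl⟩ with hw₀
      have hw₀J : w₀ ∈ coreAt z := hW (hsec _)
      have hw₀π : S.π w₀ = S.π (b : G) := hsecπ _
      have cases2 : ∀ w : ↥W, S.π (w : G) = S.π w₀ → (w : G) ≠ w₀ → (w : G) = w₀ * z := fun w hw hne =>
        ((S.eq_iff w₀ hw₀J w (hW w.2)).1 hw.symm).resolve_left hne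
      by_cases h : (a : G) = w₀
      · exact Subtype.ext (h.trans (e2.1 h).symm)
      · exact Subtype.ext ((cases2 a (e1.trans hw₀π.symm) h).trans
          (cases2 b hw₀π.symm fun hb => h (e2.2 hb)).symm)
    omega
  · -- two
    intro a ha haT h2
    obtain ⟨x, y, hxI, hyI, hx, hy, hxy⟩ := P.exists_pair (v := S.π a) fun h => haT ⟨ha, h⟩
    obtain ⟨g, rfl⟩ := S.χ_surj x
    obtain ⟨h, rfl⟩ := S.χ_surj y
    have hgJ := LargeExtra.conj_mem (coreAt_normal z g.2) ha
    have hhJ := LargeExtra.conj_mem (coreAt_normal z h.2) ha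
    rw [S.ρ_π g a ha] at hx hxy
    rw [S.ρ_π h a ha] at hy hxy
    refine ⟨g, h, (mem_centralizer_one.1 g.2).symm, (mem_centralizer_one.1 h.2).symm,
      (S.B_commute ha hgJ).1 hx, (S.B_commute ha hhJ).1 hy, fun hc => ?_,
      fun t ht => S.conj_cases_of_fix g ht.1 ?_, fun t ht => S.conj_cases_of_fix h ht.1 ?_⟩
    rotate_left
    · obtain ⟨x₀, hx₀⟩ := hxI
      rw [← hx₀]
      exact P.fix_zero x₀ _ ht.2
    · obtain ⟨x₀, hx₀⟩ := hyI
      rw [← hx₀]
      exact P.fix_zero x₀ _ ht.2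
    rw [(S.B_commute hgJ hhJ).2 hc] at hxy
    exact zero_ne_one hxy

/-- With a vector fixed by the inner automorphisms, the involution commutes with no other conjugate. -/
theorem isolated (h : ∃ v, v ≠ 0 ∧ ∀ x, S.inn x v = v) (g : G) (hc : Commute z (g * z * g⁻¹)) :
    g * z * g⁻¹ = z := by
  obtain ⟨u, P⟩ := S.exists_planes h
  obtain ⟨R⟩ := S.red P
  exact R.isolated g hc

end Cfsg.Agent.U62Aut.ASpace
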