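import Cfsg.Agent.Lib.U62Aut.Model.Space
import Mathlib.GroupTheory.PGroup

/-!
Elementary facts on the space: the polar form, fixed vectors of elements of prime power order, isotropic
subgroups.
-/

set_option autoImplicit false
set_option linter.style.haveILetI false
set_option linter.unusedSectionVars false

namespace Cfsg.Agent.U62Aut.ASpace

open Subgroup LargeExtra U62Rec.Model
open scoped commutatorElement

universe u

variable {G : Type u} [Group G] [Finite G] {z : G} {V : Type u} [AddCommGroup V] (S : ASpace z V)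

theorem two_zero : ∀ a : ZMod 2, a + a = 0 := by decide

theorem z2_cases : ∀ a : ZMod 2, a = 0 ∨ a = 1 := by decide

include S

theorem B_zero_left (w : V) : S.B 0 w = 0 := by
  have h := S.hB 0 0 w
  rw [add_zero] at h
  rw [← sub_self (S.B 0 w)]
  nth_rw 2 [h]
  rw [add_sub_cancel_right]

theorem q_zero : S.q 0 = 0 := by
  have h := S.hq 0 0
  rw [add_zero, S.B_zero_left, add_zero, two_zero] at h
  exact h

theorem B_self (v : V) : S.B v v = 0 := by
  have h := S.hq v v
  rw [S.char, S.q_zero, two_zero, zero_add] at h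
  exact h.symm

theorem B_symm (v w : V) : S.B v w = S.B w v := by
  have := (S.hq v w).symm.trans ((congrArg S.q (add_comm v w)).trans (S.hq w v))
  rw [add_comm (S.q w) (S.q v)] at this
  exact add_left_cancel this

theorem B_add (v w x : V) : S.B v (w + x) = S.B v w + S.B v x := by
  rw [S.B_symm, S.hB, S.B_symm w, S.B_symm x]

theorem B_zero (v : V) : S.B v 0 = 0 := by rw [S.B_symm, S.B_zero_left]

theorem B_inv (x : AutX) (v w : V) : S.B (S.ρ x v) (S.ρ x w) = S.B v w := by
  have h := S.q_inv x (v + w)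
  rw [map_add, S.hq, S.hq, S.q_inv, S.q_inv] at h
  exact add_left_cancel h

theorem neg_eq (v : V) : -v = v := neg_eq_of_add_eq_zero_left (S.char v)

theorem π_one : S.π 1 = 0 := by simpa using S.mul 1 (one_mem _) 1 (one_mem _)

theorem π_z : S.π z = 0 := by
  rw [← S.π_one, eq_comm]
  exact (S.eq_iff 1 (one_mem _) z S.xs.toXSub.mem).2 (Or.inr (one_mul z).symm)

theorem π_inv {a : G} (ha : a ∈ coreAt z) : S.π a⁻¹ = S.π a := by
  have h := S.mul a ha a⁻¹ (inv_mem ha)
  rw [mul_inv_cancel, S.π_one] at h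
  exact (neg_eq_of_add_eq_zero_right h.symm).symm.trans (S.neg_eq _)

theorem π_eq_zero {a : G} (ha : a ∈ coreAt z) : S.π a = 0 ↔ a = 1 ∨ a = z := by
  rw [← S.π_one, eq_comm, S.eq_iff 1 (one_mem _) a ha, one_mul]

theorem B_commute {a b : G} (ha : a ∈ coreAt z) (hb : b ∈ coreAt z) :
    S.B (S.π a) (S.π b) = 0 ↔ Commute a b := by
  rw [S.B_π a ha b hb, bit_eq_zero, commutatorElement_eq_one_iff_mul_comm]
  rfl

theorem q_sq {a : G} (ha : a ∈ coreAt z) : S.q (S.π a) = 0 ↔ a * a = 1 := by
  rw [S.q_π a ha, bit_eq_zero]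

theorem conj_cases_of_fix (g : ↥(centralizer ({z} : Set G))) {a : G} (ha : a ∈ coreAt z)
    (h : S.ρ (S.χ g) (S.π a) = S.π a) :
    (g : G) * a * (g : G)⁻¹ = a ∨ (g : G) * a * (g : G)⁻¹ = a * z := by
  rw [S.ρ_π g a ha] at h
  exact (S.eq_iff a ha _ (LargeExtra.conj_mem (coreAt_normal z g.2) ha)).1 h.symm

/-- An element of odd order fixing the image fixes the element. -/
theorem lift_fix (g : ↥(centralizer ({z} : Set G))) {n : ℕ} (hn : Odd n) (hg : (g : G) ^ n = 1)
    {a : G} (ha : a ∈ coreAt z) (h : S.ρ (S.χ g) (S.π a) = S.π a) : Commute (g : G) a := by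
  rcases S.conj_cases_of_fix g ha h with e | e
  · exact mul_inv_eq_iff_eq_mul.1 e
  · exfalso
    have hgz : (g : G) * z * (g : G)⁻¹ = z := by rw [mem_centralizer_one.1 g.2, mul_inv_cancel_right]
    have key : ∀ m : ℕ, (g : G) ^ m * a * ((g : G) ^ m)⁻¹ = a * z ^ m := by
      intro m
      induction m with
      | zero => simp
      | succ m ih =>
        calc (g : G) ^ (m + 1) * a * ((g : G) ^ (m + 1))⁻¹
            = g * ((g : G) ^ m * a * ((g : G) ^ m)⁻¹) * (g : G)⁻¹ := by rw [pow_succ']; group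
          _ = g * a * (g : G)⁻¹ * (g * z * (g : G)⁻¹) ^ m := by rw [ih, conj_pow]; group
          _ = a * z ^ (m + 1) := by rw [e, hgz, mul_assoc, ← pow_succ']
    have h1 := key n
    obtain ⟨k, rfl⟩ := hn
    rw [hg, one_mul, inv_one, mul_one, pow_succ, pow_mul, pow_two, S.xs.toXSub.sq, one_pow, one_mul] at h1
    exact S.xs.toXSub.ne_mul_z a h1

/-- The fixed vectors of an element. -/
def fixS (x : AutX) : AddSubgroup V where
  carrier := {v | S.ρ x v = v}
  zero_mem' := map_zero _
  add_mem' := fun {a b} ha hb => by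
    show S.ρ x (a + b) = a + b
    rw [map_add, (ha : S.ρ x a = a), (hb : S.ρ x b = b)]
  neg_mem' := fun {a} ha => by
    show S.ρ x (-a) = -a
    rw [map_neg, (ha : S.ρ x a = a)]

theorem mem_fixS {x : AutX} {v : V} : v ∈ S.fixS x ↔ S.ρ x v = v := Iff.rfl

/-- Fixed vectors of an element of prime power order. -/
theorem fixed_mod (p : ℕ) [hp : Fact p.Prime] (n : ℕ) (x : AutX) (hx : x ^ p ^ n = 1)
    (W : AddSubgroup V) (hW : ∀ v ∈ W, S.ρ x v ∈ W) :
    Nat.card W ≡ Nat.card ↥(W ⊓ S.fixS x) [MOD p] := by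
  haveI := S.finite
  have hWn : ∀ y : ↥(zpowers x), ∀ v ∈ W, S.ρ y v ∈ W := by
    rintro ⟨y, hy⟩
    obtain ⟨k, rfl⟩ := (mem_powers_iff_mem_zpowers.2 hy : y ∈ Submonoid.powers x)
    show ∀ v ∈ W, S.ρ (x ^ k) v ∈ W
    clear hy
    induction k with
    | zero => intro v hv; simpa using hv
    | succ k ih =>
      intro v hv
      rw [pow_succ', map_mul]
      exact hW _ (ih v hv)
  letI : MulAction ↥(zpowers x) ↥W :=
    { smul := fun y v => ⟨S.ρ y v, hWn y v v.2⟩
      one_smul := fun v => Subtype.ext (by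
        show S.ρ ((1 : ↥(zpowers x)) : AutX) v = v
        rw [coe_one, map_one]; rfl)
      mul_smul := fun a b v => Subtype.ext (by
        show S.ρ ((a * b : ↥(zpowers x)) : AutX) v = S.ρ a (S.ρ b v)
        rw [coe_mul, map_mul]; rfl) }
  have hG : IsPGroup p ↥(zpowers x) := by
    obtain ⟨k, -, hk⟩ := (Nat.dvd_prime_pow hp.out).1 (orderOf_dvd_of_pow_eq_one hx)
    exact IsPGroup.of_card (n := k) (by rw [Nat.card_zpowers, hk])
  refine (hG.card_modEq_card_fixedPoints ↥W).trans ?_
  suffices h : Nat.card (MulAction.fixedPoints ↥(zpowers x) ↥W) = Nat.card ↥(W ⊓ S.fixS x) by rw [h]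
  exact Nat.card_congr
    { toFun := fun v => ⟨v.1, v.1.2, congrArg Subtype.val (v.2 ⟨x, mem_zpowers x⟩)⟩
      invFun := fun v => ⟨⟨v, v.2.1⟩, fun y => Subtype.ext (by
        obtain ⟨k, hk⟩ := (mem_powers_iff_mem_zpowers.2 y.2 : (y : AutX) ∈ Submonoid.powers x)
        show S.ρ (y : AutX) (v : V) = v
        rw [← hk]
        show S.ρ (x ^ k) (v : V) = v
        clear hk
        induction k with
        | zero => simp
        | succ k ih =>
          rw [pow_succ', map_mul]
          show S.ρ x (S.ρ (x ^ k) (v : V)) = v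
          rw [ih]; exact v.2.2)⟩
      left_inv := fun v => rfl
      right_inv := fun v => rfl }

/-- An isotropic subgroup of a non-degenerate one is small. -/
theorem iso_small (M I : AddSubgroup V) (hIM : I ≤ M) (hnd : ∀ v ∈ M, v ≠ 0 → ∃ w ∈ M, S.B v w ≠ 0)
    (hI : ∀ v ∈ I, ∀ w ∈ I, S.B v w = 0) :
    ∃ n, Nat.card I * n = Nat.card M ∧ Nat.card I ≤ 2 ^ n := by
  haveI := S.finite
  refine ⟨Nat.card (↥M ⧸ I.addSubgroupOf M), ?_, ?_⟩
  · rw [← Nat.card_congr (AddSubgroup.addSubgroupOfEquivOfLe hIM).toEquiv,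
      AddSubgroup.card_eq_card_quotient_mul_card_addSubgroup (I.addSubgroupOf M), mul_comm]
  · let f : ↥I → (↥M ⧸ I.addSubgroupOf M → ZMod 2) := fun i c => S.B i (c.out : ↥M)
    have hf : Function.Injective f := by
      intro i j h
      by_contra hne
      have hd : (i : V) + j ≠ 0 := fun e => hne (Subtype.ext (by
        rw [add_eq_zero_iff_eq_neg, S.neg_eq] at e
        exact e))
      obtain ⟨m, hm, hb⟩ := hnd _ (M.add_mem (hIM i.2) (hIM j.2)) hd
      obtain ⟨k, hk⟩ := QuotientAddGroup.mk_out_eq_add (I.addSubgroupOf M) ⟨m, hm⟩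
      apply hb
      have h1 : S.B (i : V) _ = S.B (j : V) _ := congrFun h (QuotientAddGroup.mk ⟨m, hm⟩)
      rw [hk] at h1
      have hk' : ((k : ↥M) : V) ∈ I := k.2
      simp only [AddSubgroup.coe_add, S.B_add, hI _ i.2 _ hk', hI _ j.2 _ hk', add_zero] at h1
      rw [S.hB, h1, two_zero]
    have h2 := Nat.card_le_card_of_injective f hf
    rwa [Nat.card_fun, Nat.card_zmod] at h2

/-- A subgroup containing one of every two outside elements' sums. -/
theorem card_le_two (H K : AddSubgroup V) (h : ∀ v ∈ K, ∀ w ∈ K, v ∉ H → w ∉ H → v + w ∈ H) :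
    Nat.card K ≤ Nat.card H * 2 := by
  classical
  haveI := S.finite
  by_cases hall : K ≤ H
  · exact (Nat.card_le_card_of_injective (fun v : K => (⟨v, hall v.2⟩ : H))
      fun a b e => Subtype.ext (congrArg (fun v : H => (v : V)) e)).trans (Nat.le_mul_of_pos_right _ (by norm_num))
  · obtain ⟨v₀, hv₀, hv₀H⟩ := SetLike.not_le_iff_exists.1 hall
    let f : ↥K → ↥H × Bool := fun v =>
      if e : (v : V) ∈ H then (⟨v, e⟩, false) else (⟨v₀ + v, h v₀ hv₀ v v.2 hv₀H e⟩, true)
    refine (Nat.card_le_card_of_injective f fun a b e => ?_).trans_eq (by simp)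
    have h1 := congrArg (fun p : ↥H × Bool => (p.1 : V)) e
    have h2 := congrArg Prod.snd e
    by_cases ha : (a : V) ∈ H <;> by_cases hb : (b : V) ∈ H <;>
      simp only [f, ha, hb, dite_true, dite_false, Bool.false_eq_true, Bool.true_eq_false] at h1 h2
    · exact Subtype.ext h1
    · exact Subtype.ext (add_left_cancel h1)

omit S in
/-- The elements of order five of the automorphism group are inner. -/
theorem five_inner {x : AutX} (hx : x ^ 5 = 1) : x ∈ (MulAut.conj : Cfsg.PSp 2 (ZMod 3) →* AutX).range := by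
  have hidx : (MulAut.conj : Cfsg.PSp 2 (ZMod 3) →* AutX).range.index = 2 := by
    have h := (MulAut.conj : Cfsg.PSp 2 (ZMod 3) →* AutX).range.card_mul_index
    rw [Nat.card_congr (MonoidHom.ofInjective conj_injective).symm.toEquiv, card_X, card_autX] at h
    omega
  have h2 := Subgroup.sq_mem_of_index_two hidx (x ^ 3)
  rwa [← pow_mul, show 3 * 2 = 5 + 1 from rfl, pow_succ, hx, one_mul] at h2

end Cfsg.Agent.U62Aut.ASpace
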