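import Cfsg.Agent.Lib.U62Rec.Red.Build
import Cfsg.Agent.Lib.U62Aut.Red.FormLemmas

/-!
With a vector fixed by the inner automorphisms: a fixed non-degenerate plane and three anisotropic planes
orthogonal to it and to each other, moved independently by three commuting inner automorphisms.
-/

set_option autoImplicit false
set_option linter.style.haveILetI false
set_option linter.unusedSectionVars false
set_option maxRecDepth 20000

namespace Cfsg.Agent.U62Aut.ASpace

open Subgroup LargeExtra U62Rec.Model U62Rec.Model.Forced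

universe u

variable {G : Type u} [Group G] [Finite G] {z : G} {V : Type u} [AddCommGroup V] (S : ASpace z V)

/-- The exponent vectors as inner automorphisms. -/
noncomputable def exA (k : K3) : AutX := MulAut.conj (U62Rec.Model.Space.exG k)

theorem eps_eq (k : K3) : eps S.gen k = S.ρ (exA k) := by
  show eps S.gen k = S.inn (U62Rec.Model.Space.exG k)
  simp only [U62Rec.Model.Space.exG, map_mul, map_pow]
  rfl

theorem ev_eq_ρ (w : List (Fin 6)) : ev S.gen w = S.ρ (MulAut.conj (w.map gx).prod) := by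
  show ev S.gen w = S.inn _
  rw [map_list_prod, List.map_map]
  rfl

/-- The second shape: a fixed plane, and a plane for each of the three functionals. -/
structure Planes (S : ASpace z V) (u : Fin 3 → V) : Prop where
  mem : ∀ i : Fin 3, InU S.gen (lineF (4 + i)) (u i)
  ne : ∀ i, u i ≠ 0
  card_three : ∀ i : Fin 3, Nat.card (U S.gen (lineF (4 + i))) = 4
  card_zero : Nat.card (U S.gen 0) = 4
  fix_zero : ∀ x : Cfsg.PSp 2 (ZMod 3), ∀ v ∈ U S.gen 0, S.ρ (MulAut.conj x) v = v
  inv_zero : ∀ y : AutX, ∀ v ∈ U S.gen 0, S.ρ y v ∈ U S.gen 0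

/-- A fixed vector forces the second shape. -/
theorem exists_planes (hfix : ∃ v, v ≠ 0 ∧ ∀ x, S.inn x v = v) : ∃ u, Planes S u := by
  haveI := S.finite
  rcases S.six.shape with ⟨h0, -, -⟩ | ⟨h0, hW, h3, -⟩
  · obtain ⟨v, hv, hfix⟩ := hfix
    refine absurd (U_eq_zero h0 ((inU_zero_iff _).2 fun k => ?_)) hv
    rw [S.eps_eq]
    exact hfix _
  · have : ∀ i : Fin 3, ∃ v, InU S.gen (lineF (4 + i)) v ∧ v ≠ 0 := fun i => by
      by_contra h
      push Not at h
      have h1 : Nat.card (U S.gen (lineF (4 + i))) ≤ 1 :=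
        Finite.card_le_one_iff_subsingleton.2 ⟨fun a b => Subtype.ext ((h _ a.2).trans (h _ b.2).symm)⟩
      rw [h3 i i.2] at h1
      omega
    choose u hu hne using this
    refine ⟨u, hu, hne, fun i => h3 i i.2, h0, fun x v hv => S.fixed_four _ h0 hW x v hv, fun y v hv => ?_⟩
    refine (inU_zero_iff _).2 fun k => ?_
    have e : y⁻¹ * exA k * y = MulAut.conj (y⁻¹ (U62Rec.Model.Space.exG k)) := MulEquiv.ext fun t => by
      simp [exA, MulAut.mul_apply]
    have h : S.ρ (y⁻¹ * exA k * y) v = v := by rw [e]; exact S.fixed_four _ h0 hW _ v hv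
    rw [S.eps_eq]
    have h' := congrArg (S.ρ y) h
    rw [map_mul, map_mul] at h'
    change S.ρ y (S.ρ y⁻¹ (S.ρ (exA k) (S.ρ y v))) = S.ρ y v at h'
    have hi := S.ρ_inv y⁻¹ (S.ρ (exA k) (S.ρ y v))
    rw [inv_inv] at hi
    rwa [hi] at h'

/-- An element of a plane. -/
noncomputable def pt (u : Fin 3 → V) (i : Fin 3) : Option (ZMod 3) → V
  | none => 0
  | some a => eps S.gen (a, 0, 0) (u i)

/-- The element with given coordinates. -/
noncomputable def psi (u : Fin 3 → V) (c : C3) : V := ∑ i, S.pt u i (c i)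

variable {S} {u : Fin 3 → V} (P : Planes S u)

include P

theorem Planes.pt_mem (i : Fin 3) (o : Option (ZMod 3)) : InU S.gen (lineF (4 + i)) (S.pt u i o) := by
  cases o
  exacts [InU.zero _, S.six.inU_eps (P.mem i) _]

theorem Planes.eps_congr {f : K3} {v : V} (hv : InU S.gen f v) {k l : K3} (h : dot f k = dot f l) :
    eps S.gen k v = eps S.gen l v := by
  have h1 : dot f (k - l) = 0 := by
    have := dot_add f (k - l) l
    rw [sub_add_cancel, h] at this
    exact add_eq_right.1 this.symm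
  rw [show k = l + (k - l) by abel, S.six.eps_add]
  show eps S.gen l (eps S.gen (k - l) v) = eps S.gen l v
  rw [(hv (k - l)).1 h1]

theorem Planes.eps_pt (k : K3) (i : Fin 3) (o : Option (ZMod 3)) :
    eps S.gen k (S.pt u i o) = S.pt u i (o.map (· + dot (lineF (4 + i)) k)) := by
  cases o with
  | none => exact map_zero _
  | some a =>
    show eps S.gen k (eps S.gen (a, 0, 0) (u i)) = eps S.gen (a + dot (lineF (4 + i)) k, 0, 0) (u i)
    rw [← P.eps_congr (P.mem i) (k := k + (a, 0, 0)) (l := (a + dot (lineF (4 + i)) k, 0, 0))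
      (by rw [dot_add, dot_first, dot_first, add_comm]), S.six.eps_add]
    rfl

theorem Planes.pt_ne (i : Fin 3) (a : ZMod 3) : S.pt u i (some a) ≠ 0 := fun h => P.ne i (by
  have e := S.six.eps_cube (a, 0, 0) (u i)
  rw [show eps S.gen (a, 0, 0) (u i) = 0 from h, map_zero, map_zero] at e
  exact e.symm)

theorem Planes.pt_inj (i : Fin 3) : Function.Injective (S.pt u i) := by
  intro o o' h
  cases o with
  | none =>
    cases o' with
    | none => rfl
    | some b => exact absurd h.symm (P.pt_ne i b)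
  | some a =>
    cases o' with
    | none => exact absurd h (P.pt_ne i a)
    | some b =>
      by_contra hne
      have hd : dot (lineF (4 + i)) (b - a, 0, 0) ≠ 0 := by
        rw [dot_first]
        exact sub_ne_zero.2 fun e => hne (congrArg some e.symm)
      have e : eps S.gen (b - a, 0, 0) (S.pt u i (some a)) = S.pt u i (some a) := by
        rw [P.eps_pt, Option.map_some, dot_first, add_sub_cancel, ← h]
      have h1 := (P.pt_mem i (some a) (b - a, 0, 0)).2 hd
      rw [pk_apply, e, e, S.six.three_eq] at h1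
      exact P.pt_ne i a h1

theorem Planes.pt_surj (i : Fin 3) {v : V} (hv : InU S.gen (lineF (4 + i)) v) : ∃ o, S.pt u i o = v := by
  haveI := S.finite
  haveI := Fintype.ofFinite ↥(U S.gen (lineF (4 + i)))
  let f : Option (ZMod 3) → ↥(U S.gen (lineF (4 + i))) := fun o => ⟨S.pt u i o, P.pt_mem i o⟩
  have hf : Function.Injective f := fun a b h => P.pt_inj i (congrArg Subtype.val h)
  have hcard : Fintype.card (Option (ZMod 3)) = Fintype.card ↥(U S.gen (lineF (4 + i))) := by
    rw [← Nat.card_eq_fintype_card (α := ↥(U S.gen (lineF (4 + i)))), P.card_three i]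
    rfl
  obtain ⟨o, ho⟩ := ((Fintype.bijective_iff_injective_and_card f).2 ⟨hf, hcard⟩).2 ⟨v, hv⟩
  exact ⟨o, congrArg Subtype.val ho⟩

theorem Planes.eps_psi (k : K3) (c : C3) : eps S.gen k (S.psi u c) = S.psi u (shC k c) := by
  rw [psi, map_sum]
  exact Finset.sum_congr rfl fun i _ => P.eps_pt k i (c i)

theorem Planes.psi_none : S.psi u (fun _ => none) = 0 := Finset.sum_const_zero

theorem Planes.psi_one (i : Fin 3) (o : Option (ZMod 3)) : S.psi u (oneC i o) = S.pt u i o := by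
  rw [psi, Fintype.sum_eq_single i fun j hj => by simp [oneC, hj, pt]]
  simp [oneC]

theorem Planes.combine_bij :
    Function.Bijective (fun x : C3 × ↥(U S.gen 0) => S.psi u x.1 + x.2) := by
  haveI := S.finite
  obtain ⟨hi, -⟩ := S.six.card_bound (fun i : Fin 3 => lineF (4 + i)) (fun i => lineF_ne _ (by omega))
    fun a b h => lineF_sep _ _ (by omega) (by omega) fun e => h (Fin.ext (by omega))
  have hinj : Function.Injective (fun x : C3 × ↥(U S.gen 0) => S.psi u x.1 + x.2) := by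
    intro x y h
    have h' := @hi (fun i => ⟨S.pt u i (x.1 i), P.pt_mem i _⟩, x.2) (fun i => ⟨S.pt u i (y.1 i), P.pt_mem i _⟩, y.2) h
    simp only [Prod.mk.injEq] at h'
    exact Prod.ext (funext fun i => P.pt_inj i (congrArg Subtype.val (congrFun h'.1 i))) h'.2
  haveI := Fintype.ofFinite ↥(U S.gen 0)
  haveI := Fintype.ofFinite V
  refine (Fintype.bijective_iff_injective_and_card _).2 ⟨hinj, ?_⟩
  rw [Fintype.card_prod, ← Nat.card_eq_fintype_card (α := ↥(U S.gen 0)), P.card_zero,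
    ← Nat.card_eq_fintype_card (α := V), S.cardV]
  rfl

theorem Planes.decomp (v : V) : ∃ c, ∃ w ∈ U S.gen 0, v = S.psi u c + w :=
  (P.combine_bij.2 v).elim fun x h => ⟨x.1, x.2, x.2.2, h.symm⟩

theorem Planes.psi_inj : Function.Injective (S.psi u) := fun c d h =>
  congrArg Prod.fst (@P.combine_bij.1 (c, 0) (d, 0) (by simpa using h))

theorem Planes.orth {f : K3} {w p : V} (k : K3) (hk : dot f k ≠ 0) (hw : eps S.gen k w = w)
    (hp : InU S.gen f p) : S.B w p = 0 := by
  have h1 := (hp k).2 hk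
  rw [pk_apply] at h1
  have e1 : S.B w (eps S.gen k p) = S.B w p := by
    conv_lhs => rw [← hw]
    rw [S.eps_eq, S.B_inv]
  have e2 : S.B w (eps S.gen k (eps S.gen k p)) = S.B w p := by
    conv_lhs => rw [← hw]
    rw [S.eps_eq, S.B_inv, ← S.eps_eq, e1]
  have h2 := congrArg (S.B w) h1
  rw [S.B_add, S.B_add, e1, e2, S.B_zero, two_zero, zero_add] at h2
  exact h2

theorem Planes.zero_pt {w : V} (hw : w ∈ U S.gen 0) (i : Fin 3) (o : Option (ZMod 3)) :
    S.B w (S.pt u i o) = 0 :=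
  P.orth (1, 0, 0) (by rw [dot_first]; decide) ((inU_zero_iff w).1 hw _) (P.pt_mem i o)

theorem Planes.pt_pt {i j : Fin 3} (h : i ≠ j) (a b : Option (ZMod 3)) :
    S.B (S.pt u i a) (S.pt u j b) = 0 := by
  obtain ⟨k, h1, h2⟩ := dot_sep j i (Ne.symm h)
  exact P.orth k h1 ((P.pt_mem i a k).1 h2) (P.pt_mem j b)

theorem Planes.zero_psi {w : V} (hw : w ∈ U S.gen 0) (c : C3) : S.B w (S.psi u c) = 0 := by
  rw [psi, Fin.sum_univ_three, S.B_add, S.B_add, P.zero_pt hw, P.zero_pt hw, P.zero_pt hw, add_zero, add_zero]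

theorem Planes.B_pt (i : Fin 3) : ∀ a b : Option (ZMod 3), S.B (S.pt u i a) (S.pt u i b) = b1 a b := by
  have hu : S.pt u i (some 0) = u i := by
    show eps S.gen (0, 0, 0) (u i) = u i
    rw [show ((0, 0, 0) : K3) = 0 from rfl, eps_zero]
    rfl
  have hinv : ∀ (a b d : ZMod 3), S.B (S.pt u i (some (a + d))) (S.pt u i (some (b + d))) =
      S.B (S.pt u i (some a)) (S.pt u i (some b)) := by
    intro a b d
    have e : ∀ t : ZMod 3, S.pt u i (some (t + d)) = eps S.gen (d, 0, 0) (S.pt u i (some t)) := fun t => by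
      rw [P.eps_pt, Option.map_some, dot_first]
    rw [e, e, S.eps_eq, S.B_inv]
  obtain ⟨y, hy⟩ := S.hnd (u i) (P.ne i)
  obtain ⟨c, w, hw, rfl⟩ := P.decomp y
  rw [S.B_add, S.B_symm (u i) w, ← hu, P.zero_pt hw, add_zero, psi] at hy
  have h3 : ∀ j, j ≠ i → S.B (S.pt u i (some 0)) (S.pt u j (c j)) = 0 := fun j hj => P.pt_pt (Ne.symm hj) _ _
  rw [Fin.sum_univ_three, S.B_add, S.B_add] at hy
  have hci : S.B (S.pt u i (some 0)) (S.pt u i (c i)) ≠ 0 := by
    fin_cases i <;> simp_all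
  obtain ⟨a, ha⟩ : ∃ a, c i = some a := by
    cases hc : c i with
    | none => exact absurd (by rw [hc]; exact S.B_zero _) hci
    | some a => exact ⟨a, rfl⟩
  rw [ha] at hci
  have h1 : S.B (S.pt u i (some 0)) (S.pt u i (some a)) = 1 := (z2_cases _).resolve_left hci
  have h2 : S.B (S.pt u i (some 0)) (S.pt u i (some (-a))) = 1 := by
    rw [← hinv 0 (-a) a, zero_add, neg_add_cancel, S.B_symm, h1]
  have ha0 : a ≠ 0 := fun h => hci (by rw [h]; exact S.B_self _)
  have hall : ∀ b : ZMod 3, S.B (S.pt u i (some 0)) (S.pt u i (some b)) = if 0 = b then 0 else 1 := by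
    intro b
    have key : ∀ a b : ZMod 3, a ≠ 0 → b = 0 ∨ b = a ∨ b = -a := by decide
    rcases key a b ha0 with rfl | rfl | rfl
    · simp [S.B_self]
    · rw [if_neg (Ne.symm ha0), h1]
    · rw [if_neg (fun e => ha0 (neg_eq_zero.1 e.symm)), h2]
  rintro (_ | a) (_ | b)
  · exact S.B_zero _
  · exact S.B_zero_left _
  · exact S.B_zero _
  · have h4 := hinv 0 (b - a) a
    rw [zero_add, sub_add_cancel, hall] at h4
    rw [h4]
    simp only [b1]
    have key : ∀ a b : ZMod 3, (if 0 = b - a then (0 : ZMod 2) else 1) = if a = b then 0 else 1 := by decide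
    exact key a b

theorem Planes.q_pt (i : Fin 3) : ∀ a, S.q (S.pt u i a) = q1 a := by
  have h1 := (P.pt_mem i (some 0) (1, 0, 0)).2 (by rw [dot_first]; decide)
  rw [pk_apply, P.eps_pt, P.eps_pt, Option.map_some, Option.map_some, dot_first,
    show (0 : ZMod 3) + 1 = 1 by decide, show (1 : ZMod 3) + 1 = 2 by decide] at h1
  have hq : ∀ a : ZMod 3, S.q (S.pt u i (some a)) = S.q (S.pt u i (some 0)) := fun a => by
    rw [show S.pt u i (some a) = eps S.gen (a, 0, 0) (S.pt u i (some 0)) by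
      rw [P.eps_pt, Option.map_some, dot_first, zero_add], S.eps_eq, S.q_inv]
  have h2 : S.pt u i (some 0) + S.pt u i (some 1) = S.pt u i (some 2) := by
    rw [add_eq_zero_iff_eq_neg] at h1
    rw [h1, S.neg_eq]
  have h3 := congrArg S.q h2
  rw [S.hq, P.B_pt i, hq 1, hq 2, two_zero, zero_add] at h3
  rintro (_ | a)
  · exact S.q_zero
  · rw [hq, ← h3]
    rfl

theorem Planes.B_psi (c d : C3) : S.B (S.psi u c) (S.psi u d) = bC c d := by
  simp only [psi, Fin.sum_univ_three, S.hB, S.B_add, P.B_pt, P.pt_pt (show (0 : Fin 3) ≠ 1 by decide),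
    P.pt_pt (show (0 : Fin 3) ≠ 2 by decide), P.pt_pt (show (1 : Fin 3) ≠ 2 by decide),
    P.pt_pt (show (1 : Fin 3) ≠ 0 by decide), P.pt_pt (show (2 : Fin 3) ≠ 0 by decide),
    P.pt_pt (show (2 : Fin 3) ≠ 1 by decide), add_zero, zero_add]
  rfl

theorem Planes.q_psi (c : C3) : S.q (S.psi u c) = qC c := by
  simp only [psi, Fin.sum_univ_three, S.hq, S.hB, P.q_pt, P.pt_pt (show (0 : Fin 3) ≠ 1 by decide),
    P.pt_pt (show (0 : Fin 3) ≠ 2 by decide), P.pt_pt (show (1 : Fin 3) ≠ 2 by decide), add_zero]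
  rfl

theorem Planes.B_full {w w' : V} (hw : w ∈ U S.gen 0) (hw' : w' ∈ U S.gen 0) (c d : C3) :
    S.B (S.psi u c + w) (S.psi u d + w') = bC c d + S.B w w' := by
  rw [S.hB, S.B_add, S.B_add, P.B_psi, P.zero_psi hw, S.B_symm (S.psi u c) w', P.zero_psi hw', add_zero, zero_add]

theorem Planes.nd_zero {w : V} (hw : w ∈ U S.gen 0) (h0 : w ≠ 0) : ∃ w' ∈ U S.gen 0, S.B w w' ≠ 0 := by
  obtain ⟨y, hy⟩ := S.hnd w h0
  obtain ⟨c, w', hw', rfl⟩ := P.decomp y
  rw [S.B_add, P.zero_psi hw, zero_add] at hy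
  exact ⟨w', hw', hy⟩

/-- The three planes, as the vectors orthogonal to the fixed plane. -/
def Planes.perp (_P : Planes S u) : AddSubgroup V where
  carrier := {v | ∀ w ∈ U S.gen 0, S.B w v = 0}
  zero_mem' := fun w _ => S.B_zero w
  add_mem' := fun {a b} ha hb w hw => by rw [S.B_add, ha w hw, hb w hw, add_zero]
  neg_mem' := fun {a} ha w hw => by rw [S.neg_eq]; exact ha w hw

theorem Planes.mem_perp {v : V} : v ∈ P.perp ↔ ∃ c, S.psi u c = v := by
  refine ⟨fun h => ?_, fun ⟨c, e⟩ w hw => e ▸ P.zero_psi hw c⟩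
  obtain ⟨c, w, hw, rfl⟩ := P.decomp v
  refine ⟨c, ?_⟩
  rw [add_eq_left.2]
  by_contra hne
  obtain ⟨w', hw', hb⟩ := P.nd_zero hw hne
  have := h w' hw'
  rw [S.B_add, P.zero_psi hw', zero_add, S.B_symm] at this
  exact hb this

theorem Planes.perp_inv (x : AutX) {v : V} (hv : v ∈ P.perp) : S.ρ x v ∈ P.perp := fun w hw => by
  have hw' := P.inv_zero x⁻¹ w hw
  have e : S.ρ x (S.ρ x⁻¹ w) = w := by simpa using S.ρ_inv x⁻¹ w
  rw [← e, S.B_inv]
  exact hv _ hw'

/-- An automorphism acting trivially on the three planes is trivial. -/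
theorem Planes.eq_one {y : AutX} (h : ∀ v ∈ P.perp, S.ρ y v = v) : y = 1 := by
  refine MulEquiv.ext fun t => conj_injective (S.ρ_inj (DFunLike.ext _ _ fun v => ?_))
  rw [MulAut.one_apply, show MulAut.conj (y t) = y * MulAut.conj t * y⁻¹ from MulEquiv.ext fun s => by
    simp [MulAut.mul_apply]]
  obtain ⟨c, w, hw, rfl⟩ := P.decomp v
  have hp : S.psi u c ∈ P.perp := P.mem_perp.2 ⟨c, rfl⟩
  have hi : ∀ v ∈ P.perp, S.ρ y⁻¹ v = v := fun v hv => by
    conv_lhs => rw [← h v hv]
    exact S.ρ_inv y v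
  rw [map_mul, map_mul]
  show S.ρ y (S.ρ (MulAut.conj t) (S.ρ y⁻¹ (S.psi u c + w))) = S.ρ (MulAut.conj t) (S.psi u c + w)
  rw [map_add, hi _ hp, map_add, map_add, map_add, h _ (P.perp_inv _ hp), P.fix_zero t _ (P.inv_zero y⁻¹ w hw),
    P.fix_zero t w hw, show S.ρ y (S.ρ y⁻¹ w) = w by simpa using S.ρ_inv y⁻¹ w]

theorem Planes.card_perp : Nat.card ↥P.perp = 64 := by
  rw [← Nat.card_congr (Equiv.ofBijective (fun c : C3 => (⟨S.psi u c, P.mem_perp.2 ⟨c, rfl⟩⟩ : ↥P.perp))
    ⟨fun a b h => P.psi_inj (congrArg Subtype.val h),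
      fun v => (P.mem_perp.1 v.2).elim fun c e => ⟨c, Subtype.ext e⟩⟩), Nat.card_eq_fintype_card]
  rfl

end Cfsg.Agent.U62Aut.ASpace
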