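import Cfsg.Agent.Lib.U62Aut.Red.Defs
import Cfsg.Agent.Lib.U62Aut.Red.Planes
import Mathlib.GroupTheory.GroupAction.Quotient
import Mathlib.GroupTheory.Perm.Cycle.Type

/-!
The local facts from the hypotheses with a fixed vector.
-/

set_option autoImplicit false
set_option linter.style.haveILetI false
set_option linter.unusedSectionVars false
set_option maxRecDepth 20000

namespace Cfsg.Agent.U62Aut.ASpace

open Subgroup LargeExtra U62Rec.Model U62Rec.Model.Forced
open scoped commutatorElement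

universe u

variable {G : Type u} [Group G] [Finite G] {z : G} {V : Type u} [AddCommGroup V] {S : ASpace z V}
  {u : Fin 3 → V} (P : Planes S u)

include P

/-- An element of order five fixing a singular vector of the three planes. -/
theorem Planes.exists_five {v : V} (hv : v ∈ P.perp) (h0 : v ≠ 0) (hq : S.q v = 0) :
    ∃ x : AutX, orderOf x = 5 ∧ S.ρ x v = v := by
  classical
  haveI := S.finite
  haveI : Fact (Nat.Prime 5) := ⟨by norm_num⟩
  letI : MulAction (AutX) V :=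
    { smul := fun x w => S.ρ x w
      one_smul := fun w => by show S.ρ 1 w = w; rw [map_one]; rfl
      mul_smul := fun x y w => by show S.ρ (x * y) w = S.ρ x (S.ρ y w); rw [map_mul]; rfl }
  have hsm : ∀ (x : AutX) (w : V), x • w = S.ρ x w := fun _ _ => rfl
  obtain ⟨c, rfl⟩ := P.mem_perp.1 hv
  have hc : c ∈ singC := by
    simp only [singC, Finset.mem_filter, Finset.mem_univ, true_and]
    exact ⟨by rw [← P.q_psi]; exact hq, fun e => h0 (by rw [e]; exact P.psi_none)⟩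
  let O : Finset C3 := Finset.univ.filter fun d => ∃ x, S.ρ x (S.psi u c) = S.psi u d
  have hcO : c ∈ O := by
    simp only [O, Finset.mem_filter, Finset.mem_univ, true_and]
    exact ⟨1, by rw [map_one]; rfl⟩
  have hO : ∀ d, d ∈ O → d ∈ singC := fun d hd => by
    simp only [O, Finset.mem_filter, Finset.mem_univ, true_and] at hd
    obtain ⟨x, hx⟩ := hd
    simp only [singC, Finset.mem_filter, Finset.mem_univ, true_and]
    refine ⟨by rw [← P.q_psi, ← hx, S.q_inv]; exact hq, fun e => h0 ?_⟩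
    rw [e, P.psi_none] at hx
    have := congrArg (S.ρ x⁻¹) hx
    rwa [S.ρ_inv, map_zero] at this
  have hshift : ∀ d ∈ O, ∀ k, shC k d ∈ O := fun d hd k => by
    simp only [O, Finset.mem_filter, Finset.mem_univ, true_and] at hd ⊢
    obtain ⟨x, hx⟩ := hd
    exact ⟨exA k * x, by rw [map_mul]; show S.ρ (exA k) (S.ρ x _) = _; rw [hx, ← S.eps_eq, P.eps_psi]⟩
  have hfill : O = singC.filter fun d => zeroAt d ∈ O.image zeroAt := by
    ext d
    simp only [Finset.mem_filter, Finset.mem_image]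
    refine ⟨fun hd => ⟨hO d hd, d, hd, rfl⟩, fun ⟨hd, e, he, hz⟩ => ?_⟩
    obtain ⟨k, hk⟩ := shift_conn e (hO e he) d hd hz
    exact hk ▸ hshift e he k
  have horb : MulAction.orbit (AutX) (S.psi u c) = S.psi u '' (O : Set C3) := by
    ext w
    simp only [MulAction.mem_orbit_iff, hsm, Set.mem_image, O, Finset.coe_filter, Finset.mem_univ, true_and,
      Set.mem_ofPred_eq]
    refine ⟨fun ⟨x, hx⟩ => ?_, fun ⟨d, ⟨x, hx⟩, e⟩ => ⟨x, hx.trans e⟩⟩
    obtain ⟨d, hd⟩ := P.mem_perp.1 (P.perp_inv x hv)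
    exact ⟨d, ⟨x, hd.symm⟩, hd.trans hx⟩
  set K := MulAction.stabilizer (AutX) (S.psi u c) with hK
  have hidx : K.index = O.card := by
    rw [hK, MulAction.index_stabilizer, horb, Set.ncard_image_of_injective _ P.psi_inj, Set.ncard_coe_finset]
  have hcard := K.card_mul_index
  rw [hidx, card_autX, hfill] at hcard
  have h5 : 5 ∣ Nat.card K := by
    rcases class_card (O.image zeroAt) ⟨_, Finset.mem_image_of_mem _ hcO⟩ with h | h | h <;> rw [h] at hcard <;>
      omega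
  obtain ⟨x, hx⟩ := exists_prime_orderOf_dvd_card' 5 h5
  exact ⟨x, by rwa [orderOf_coe], MulAction.mem_stabilizer_iff.1 x.2⟩

/-- The fixed vectors in the planes of an element of order five. -/
theorem Planes.card_fix_five {x : AutX} (hx : x ^ 5 = 1) (h1 : x ≠ 1) :
    Nat.card ↥(P.perp ⊓ S.fixS x) = 4 := by
  haveI := S.finite
  haveI : Fact (Nat.Prime 5) := ⟨by norm_num⟩
  have h := S.fixed_mod 5 1 x (by rwa [pow_one]) P.perp fun v hv => P.perp_inv x hv
  have hdvd := AddSubgroup.card_dvd_of_le (inf_le_left : P.perp ⊓ S.fixS x ≤ P.perp)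
  rw [P.card_perp] at h hdvd
  have hne : Nat.card ↥(P.perp ⊓ S.fixS x) ≠ 64 := by
    intro h64
    have hle := AddSubgroup.eq_of_le_of_card_ge (inf_le_left : P.perp ⊓ S.fixS x ≤ P.perp)
      (by rw [h64, P.card_perp])
    refine h1 (S.ρ_inj ((DFunLike.ext _ _ fun v => ?_).trans (map_one S.ρ).symm))
    obtain ⟨c, w, hw, rfl⟩ := P.decomp v
    have hc : S.psi u c ∈ P.perp ⊓ S.fixS x := hle.symm ▸ P.mem_perp.2 ⟨c, rfl⟩
    obtain ⟨x₀, rfl⟩ := five_inner hx
    rw [map_add, P.fix_zero x₀ w hw, S.mem_fixS.1 hc.2]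
    rfl
  obtain ⟨k, hk, e⟩ := (Nat.dvd_prime_pow Nat.prime_two).1 (show _ ∣ 2 ^ 6 from hdvd)
  rw [e] at h hne ⊢
  rw [Nat.ModEq] at h
  interval_cases k <;> simp_all

/-- The fixed vectors of an element are spanned by the fixed plane and those in the three planes. -/
theorem Planes.card_fix (x : AutX) (hin : x ∈ (MulAut.conj : Cfsg.PSp 2 (ZMod 3) →* AutX).range) :
    Nat.card ↥(S.fixS x) = 4 * Nat.card ↥(P.perp ⊓ S.fixS x) := by
  haveI := S.finite
  have hfz : ∀ w ∈ U S.gen 0, S.ρ x w = w := fun w hw => by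
    obtain ⟨x₀, rfl⟩ := hin
    exact P.fix_zero x₀ w hw
  let f : ↥(U S.gen 0) × ↥(P.perp ⊓ S.fixS x) → ↥(S.fixS x) := fun p =>
    ⟨p.1 + p.2, (S.fixS x).add_mem (hfz _ p.1.2) p.2.2.2⟩
  rw [← P.card_zero, ← Nat.card_prod]
  refine (Nat.card_congr (Equiv.ofBijective f ⟨fun a b h => ?_, fun v => ?_⟩)).symm
  · have h' : (a.1 : V) + a.2 = b.1 + b.2 := congrArg Subtype.val h
    obtain ⟨c, hc⟩ := P.mem_perp.1 a.2.2.1
    obtain ⟨d, hd⟩ := P.mem_perp.1 b.2.2.1
    have h2 := @P.combine_bij.1 (c, a.1) (d, b.1) (by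
      show S.psi u c + _ = S.psi u d + _
      rw [hc, hd, add_comm, h', add_comm])
    simp only [Prod.mk.injEq] at h2
    exact Prod.ext h2.2 (Subtype.ext (by rw [← hc, ← hd, h2.1]))
  · obtain ⟨c, w, hw, e⟩ := P.decomp (v : V)
    have hfix : S.ρ x (S.psi u c) = S.psi u c := by
      have h := v.2
      rw [S.mem_fixS, e, map_add, hfz w hw] at h
      exact add_right_cancel h
    exact ⟨⟨⟨w, hw⟩, ⟨_, P.mem_perp.2 ⟨c, rfl⟩, hfix⟩⟩, Subtype.ext ((add_comm _ _).trans e.symm)⟩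

/-- The sum over the powers of an element of order five. -/
theorem Planes.average {x : AutX} (hx : x ^ 5 = 1) :
    ∃ av : V →+ V, (∀ w ∈ P.perp, av w ∈ P.perp ⊓ S.fixS x) ∧ (∀ f ∈ S.fixS x, av f = f) ∧
      (∀ f ∈ S.fixS x, ∀ w, S.B f (av w) = S.B f w) ∧ ∀ w, av (S.ρ x w) = av w := by
  let r := S.ρ x
  refine ⟨(1 + r + r * r + r * r * r + r * r * r * r : AddMonoid.End V), ?_, ?_, ?_, ?_⟩
  all_goals
    have h5 : ∀ w, r (r (r (r (r w)))) = w := fun w => by
      show (r * r * r * r * r) w = w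
      rw [show r * r * r * r * r = S.ρ (x ^ 5) by simp [r, pow_succ], hx, map_one]
      rfl
  · intro w hw
    have hr : ∀ y ∈ P.perp, r y ∈ P.perp := fun y hy => P.perp_inv x hy
    refine ⟨?_, ?_⟩
    · show w + r w + r (r w) + r (r (r w)) + r (r (r (r w))) ∈ P.perp
      exact add_mem (add_mem (add_mem (add_mem hw (hr _ hw)) (hr _ (hr _ hw))) (hr _ (hr _ (hr _ hw))))
        (hr _ (hr _ (hr _ (hr _ hw))))
    · show r (w + r w + r (r w) + r (r (r w)) + r (r (r (r w)))) =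
        w + r w + r (r w) + r (r (r w)) + r (r (r (r w)))
      simp only [map_add, h5]
      abel
  · intro f hf
    have hf' : r f = f := hf
    show f + r f + r (r f) + r (r (r f)) + r (r (r (r f))) = f
    simp only [hf']
    rw [S.six.three_eq, add_assoc, S.char, add_zero]
  · intro f hf w
    have hf' : r f = f := hf
    have hB : ∀ y, S.B f (r y) = S.B f y := fun y => by
      conv_lhs => rw [← hf']
      exact S.B_inv x f y
    show S.B f (w + r w + r (r w) + r (r (r w)) + r (r (r (r w)))) = S.B f w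
    simp only [S.B_add, hB]
    rw [two_zero, zero_add, add_assoc, two_zero, add_zero]
  · intro w
    show r w + r (r w) + r (r (r w)) + r (r (r (r w))) + r (r (r (r (r w)))) =
      w + r w + r (r w) + r (r (r w)) + r (r (r (r w)))
    rw [h5]
    abel

set_option maxHeartbeats 800000 in
/-- A two-element centralizing an element of order five and a singular fixed vector is trivial. -/
theorem Planes.two_triv {x y : AutX} (hx : x ^ 5 = 1) (h1 : x ≠ 1) (hy : y ^ 4 = 1)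
    (hxy : Commute x y) {v : V} (hv : v ∈ P.perp) (h0 : v ≠ 0) (hq : S.q v = 0)
    (hxv : S.ρ x v = v) (hyv : S.ρ y v = v) : y = 1 := by
  haveI := S.finite
  haveI : Fact (Nat.Prime 5) := ⟨by norm_num⟩
  obtain ⟨av, avP, avF, avB, avr⟩ := P.average hx
  have hcomm : ∀ w, S.ρ x (S.ρ y w) = S.ρ y (S.ρ x w) := fun w => by
    show (S.ρ x * S.ρ y) w = (S.ρ y * S.ρ x) w
    rw [← map_mul, ← map_mul, hxy.eq]
  set F := P.perp ⊓ S.fixS x with hFdef
  -- the fixed part
  obtain ⟨f, hfF, hvf⟩ : ∃ f ∈ F, S.B v f ≠ 0 := by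
    obtain ⟨w, hw⟩ := S.hnd v h0
    obtain ⟨c, w', hw', rfl⟩ := P.decomp w
    refine ⟨av (S.psi u c), avP _ (P.mem_perp.2 ⟨c, rfl⟩), ?_⟩
    rw [S.B_add, S.B_symm v w', hv w' hw', add_zero] at hw
    rwa [avB v hxv]
  have hB1 : S.B v f = 1 := (z2_cases _).resolve_left hvf
  have hfne : f ≠ 0 := fun e => hvf (by rw [e, S.B_zero])
  have hfv : f ≠ v := fun e => hvf (by rw [e, S.B_self])
  have hFset : (F : Set V) = {0, v, f, v + f} := by
    refine (Set.eq_of_subset_of_ncard_le ?_ ?_).symm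
    · rintro w (rfl | rfl | rfl | rfl)
      exacts [F.zero_mem, ⟨hv, hxv⟩, hfF, F.add_mem ⟨hv, hxv⟩ hfF]
    · have h4 : (F : Set V).ncard = 4 := P.card_fix_five hx h1
      have e3 : v + f ≠ 0 := fun e => hfv (by rw [add_eq_zero_iff_eq_neg, S.neg_eq] at e; exact e.symm)
      rw [h4, Set.ncard_insert_of_notMem (by simp [Ne.symm h0, Ne.symm hfne, Ne.symm e3]),
        Set.ncard_insert_of_notMem (by simp [Ne.symm hfv, hfne]), Set.ncard_pair (by simp [h0])]
  have hyF : ∀ w ∈ F, S.ρ y w ∈ F := fun w hw => ⟨P.perp_inv y hw.1, by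
    show S.ρ x (S.ρ y w) = S.ρ y w
    rw [hcomm, S.mem_fixS.1 hw.2]⟩
  have hfixF : ∀ w ∈ F, S.ρ y w = w := by
    obtain ⟨f₁, hf₁, hB₁, hq₁, huniq⟩ : ∃ f₁ ∈ F, S.B v f₁ = 1 ∧ S.q f₁ = 0 ∧
        ∀ w ∈ F, S.B v w = 1 → S.q w = 0 → w = f₁ := by
      have hqvf : S.q (v + f) = S.q f + 1 := by rw [S.hq, hq, zero_add, hB1]
      have mem : ∀ w ∈ F, w = 0 ∨ w = v ∨ w = f ∨ w = v + f := fun w hw => by
        have : w ∈ (F : Set V) := hw
        rw [hFset] at this
        exact this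
      rcases z2_cases (S.q f) with e | e
      · refine ⟨f, hfF, hB1, e, fun w hw hb hw0 => ?_⟩
        rcases mem w hw with rfl | rfl | rfl | rfl
        · rw [S.B_zero] at hb; exact absurd hb (by decide)
        · rw [S.B_self] at hb; exact absurd hb (by decide)
        · rfl
        · rw [hqvf, e] at hw0; exact absurd hw0 (by decide)
      · refine ⟨v + f, F.add_mem ⟨hv, hxv⟩ hfF, by rw [S.B_add, S.B_self, hB1, zero_add],
          by rw [hqvf, e]; decide, fun w hw hb hw0 => ?_⟩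
        rcases mem w hw with rfl | rfl | rfl | rfl
        · rw [S.B_zero] at hb; exact absurd hb (by decide)
        · rw [S.B_self] at hb; exact absurd hb (by decide)
        · rw [e] at hw0; exact absurd hw0 (by decide)
        · rfl
    have hy₁ : S.ρ y f₁ = f₁ := huniq _ (hyF _ hf₁)
      (by nth_rw 1 [← hyv]; rw [S.B_inv, hB₁]) (by rw [S.q_inv, hq₁])
    intro w hw
    have : w ∈ (F : Set V) := hw
    rw [hFset] at this
    have hff : S.ρ y f = f := by
      rcases z2_cases (S.q f) with e | e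
      · rw [huniq f hfF hB1 e]; exact hy₁
      · have : v + f = f₁ := huniq _ (F.add_mem ⟨hv, hxv⟩ hfF) (by rw [S.B_add, S.B_self, hB1, zero_add])
          (by rw [S.hq, hq, zero_add, hB1, e]; decide)
        rw [← this, map_add, hyv] at hy₁
        exact add_left_cancel hy₁
    rcases this with rfl | rfl | rfl | rfl
    exacts [map_zero _, hyv, hff, by rw [map_add, hyv, hff]]
  -- the moved part
  set W := P.perp ⊓ AddMonoidHom.ker (av : V →+ V) with hWdef
  have hav : ∀ {w}, w ∈ W → av w = 0 := fun hw => AddMonoidHom.mem_ker.1 hw.2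
  have hyy : ∀ w, S.ρ y (S.ρ y (S.ρ y (S.ρ y w))) = w := fun w => by
    show (S.ρ y * S.ρ y * S.ρ y * S.ρ y) w = w
    rw [← map_mul, ← map_mul, ← map_mul, show y * y * y * y = y ^ 4 by simp [pow_succ], hy, map_one]
    rfl
  have hWx : ∀ w ∈ W, S.ρ x w ∈ W := fun w hw =>
    ⟨P.perp_inv x hw.1, AddMonoidHom.mem_ker.2 ((avr w).trans (hav hw))⟩
  have hWy : ∀ w ∈ W, S.ρ y w ∈ W := fun w hw => by
    refine ⟨P.perp_inv y hw.1, AddMonoidHom.mem_ker.2 ?_⟩
    have hF' : av (S.ρ y w) ∈ F := avP _ (P.perp_inv y hw.1)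
    show av (S.ρ y w) = 0
    by_contra hne
    obtain ⟨c, w', hw', e⟩ := P.decomp (av (S.ρ y w))
    obtain ⟨g, hg, hb⟩ : ∃ g ∈ F, S.B (av (S.ρ y w)) g ≠ 0 := by
      obtain ⟨t, ht⟩ := S.hnd _ hne
      obtain ⟨d, t', ht', rfl⟩ := P.decomp t
      refine ⟨av (S.psi u d), avP _ (P.mem_perp.2 ⟨d, rfl⟩), ?_⟩
      rw [S.B_add, S.B_symm _ t', hF'.1 t' ht', add_zero] at ht
      rwa [avB _ hF'.2]
    apply hb
    rw [S.B_symm, avB g hg.2, ← hfixF g hg, S.B_inv, ← avB g hg.2, hav hw, S.B_zero]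
  have hWfix : W ⊓ S.fixS x = ⊥ := by
    refine (AddSubgroup.eq_bot_iff_forall _).2 fun w hw => ?_
    rw [← avF w hw.2]
    exact hav hw.1
  have hx5 : x ^ 5 ^ 1 = 1 := by rw [Nat.pow_one]; exact hx
  have hW5 : Nat.card ↥W ≡ Nat.card ↥(W ⊓ S.fixS x) [MOD 5] := S.fixed_mod 5 1 x hx5 W hWx
  rw [hWfix, AddSubgroup.card_bot] at hW5
  set M := W ⊓ S.fixS y with hMdef
  have hMx : ∀ w ∈ M, S.ρ x w ∈ M := fun w hw => ⟨hWx w hw.1, by
    show S.ρ y (S.ρ x w) = S.ρ x w
    rw [← hcomm, S.mem_fixS.1 hw.2]⟩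
  have hM5 : Nat.card ↥M ≡ Nat.card ↥(M ⊓ S.fixS x) [MOD 5] := S.fixed_mod 5 1 x hx5 M hMx
  rw [show M ⊓ S.fixS x = ⊥ from le_bot_iff.1 (hWfix ▸ inf_le_inf_right _ inf_le_left),
    AddSubgroup.card_bot] at hM5
  have hM2 := @fixed_mod _ _ _ _ _ _ S 2 ⟨Nat.prime_two⟩ 2 y (show y ^ 2 ^ 2 = 1 by rw [show (2 : ℕ) ^ 2 = 4 from rfl]; exact hy) W hWy
  have hWM : W ≤ M := by
    obtain ⟨k, hk, ek⟩ := (Nat.dvd_prime_pow Nat.prime_two).1
      (show Nat.card ↥W ∣ 2 ^ 6 by
        have hd := AddSubgroup.card_dvd_of_le (inf_le_left : W ≤ P.perp)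
        rw [P.card_perp] at hd
        exact hd)
    obtain ⟨l, hl, el⟩ := (Nat.dvd_prime_pow Nat.prime_two).1
      (show Nat.card ↥M ∣ 2 ^ k from ek ▸ AddSubgroup.card_dvd_of_le (inf_le_left : M ≤ W))
    refine (AddSubgroup.eq_of_le_of_card_ge (inf_le_left : M ≤ W) ?_).ge
    rw [← hMdef] at hM2
    rw [ek] at hW5 hM2
    rw [el] at hM5 hM2
    rw [ek, el]
    have key : ∀ n < 7, 2 ^ n % 5 = 1 % 5 → n = 0 ∨ n = 4 := by decide
    rcases key k (by omega) hW5 with rfl | rfl <;> rcases key l (by omega) hM5 with rfl | rfl <;>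
      first | exact le_rfl | exact absurd hM2 (by decide)
  refine P.eq_one fun w hw => ?_
  obtain ⟨c, rfl⟩ := P.mem_perp.1 hw
  have hp : S.psi u c ∈ P.perp := hw
  have hres : S.psi u c + av (S.psi u c) ∈ W :=
    ⟨P.perp.add_mem hp (avP _ hp).1, AddMonoidHom.mem_ker.2 (by rw [map_add, avF _ (avP _ hp).2, S.char])⟩
  have h2 : S.ρ y (S.psi u c + av (S.psi u c)) = S.psi u c + av (S.psi u c) := (hWM hres).2
  rw [map_add, hfixF _ (avP _ hp)] at h2
  exact add_right_cancel h2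

/-- Two images orthogonal to a vector outside the fixed plane and not to each other. -/
theorem Planes.exists_pair {v : V} (hv : v ∉ U S.gen 0) :
    ∃ x y : AutX, x ∈ (MulAut.conj : Cfsg.PSp 2 (ZMod 3) →* AutX).range ∧
      y ∈ (MulAut.conj : Cfsg.PSp 2 (ZMod 3) →* AutX).range ∧ S.B v (S.ρ x v) = 0 ∧ S.B v (S.ρ y v) = 0 ∧ S.B (S.ρ x v) (S.ρ y v) = 1 := by
  obtain ⟨c, w, hw, rfl⟩ := P.decomp v
  have hc : c ≠ fun _ => none := fun e => hv (by rw [e, P.psi_none, zero_add]; exact hw)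
  have himg : ∀ k, S.ρ (exA k) (S.psi u c + w) = S.psi u (shC k c) + w := fun k => by
    rw [map_add, show S.ρ (exA k) w = w from P.fix_zero _ w hw, ← S.eps_eq, P.eps_psi]
  rcases two_table c hc with ⟨k, -, l, -, h1, h2, h3⟩ | ⟨i, a, rfl⟩
  · refine ⟨exA k, exA l, ⟨_, rfl⟩, ⟨_, rfl⟩, ?_, ?_, ?_⟩ <;> simp only [himg, P.B_full hw hw, S.B_self, add_zero] <;> assumption
  · obtain ⟨wd, -, hwd, hf⟩ := word_table i (i + 1)
    obtain ⟨hm, hne⟩ := S.six.inU_word hwd (P.pt_mem i (some a))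
    have hm' : InU S.gen (lineF (4 + (i + 1 : Fin 3))) (ev S.gen wd (S.pt u i (some a))) := by
      rcases hf with h | h <;> rw [h] at hm
      exacts [hm, S.six.U_neg _ hm]
    obtain ⟨o, ho⟩ := P.pt_surj (i + 1) hm'
    obtain ⟨b, rfl⟩ : ∃ b, o = some b := by
      cases o with
      | none => exact absurd (hne ho.symm) (P.pt_ne i a)
      | some b => exact ⟨b, rfl⟩
    obtain ⟨h1, h2, h3⟩ := one_table i a b
    have hx : S.ρ (MulAut.conj (wd.map gx).prod) (S.psi u (oneC i (some a)) + w) = S.psi u (oneC (i + 1) (some b)) + w := by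
      rw [map_add, P.fix_zero _ w hw, P.psi_one, P.psi_one, ho, S.ev_eq_ρ]
    have hy : S.ρ (exA (1, 0, 0) * (MulAut.conj (wd.map gx).prod)) (S.psi u (oneC i (some a)) + w) =
        S.psi u (shC (1, 0, 0) (oneC (i + 1) (some b))) + w := by
      rw [map_mul]
      show S.ρ _ (S.ρ _ _) = _
      rw [hx, map_add, show S.ρ (exA (1, 0, 0)) w = w from P.fix_zero _ w hw, ← S.eps_eq, P.eps_psi]
    refine ⟨(MulAut.conj (wd.map gx).prod), exA (1, 0, 0) * (MulAut.conj (wd.map gx).prod), ⟨_, rfl⟩,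
      mul_mem ⟨_, rfl⟩ ⟨_, rfl⟩, ?_, ?_, ?_⟩ <;> simp only [hx, hy, P.B_full hw hw, S.B_self, add_zero] <;> assumption

end Cfsg.Agent.U62Aut.ASpace
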