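import Cfsg.Agent.Lib.LargeExtra.Radical

/-!
The local facts at an involution when the quotient of its centralizer fixes a non-degenerate plane of the
2-core modulo the centre: `T` is the preimage of that plane.
-/

set_option autoImplicit false
set_option linter.unusedSectionVars false

namespace Cfsg.Agent.U62Aut

open Subgroup LargeExtra
open scoped commutatorElement

/-- The local facts in the case of a fixed plane. -/
structure Red {G : Type*} [Group G] (z : G) where
  xs : XSLocal (coreAt z) z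
  card : Nat.card (coreAt z) = 512
  /-- The preimage of the fixed plane. -/
  T : Subgroup G
  T_le : T ≤ coreAt z
  z_mem : z ∈ T
  T_norm : ∀ t ∈ T, ∀ g : G, Commute z g → g * t * g⁻¹ ∈ T
  T_sq : ∀ t ∈ T, ∀ g : G, Commute z g → g * t * g⁻¹ = t ∨ g * t * g⁻¹ = t * z ∨
    g * t * g⁻¹ * t⁻¹ * (g * t * g⁻¹ * t⁻¹) = z
  T_one : ∀ g : G, Commute z g → ∀ t ∈ T, t ≠ 1 → t ≠ z → t * t = 1 →
    g * t * g⁻¹ = t ∨ g * t * g⁻¹ = t * z → ∀ s ∈ T, g * s * g⁻¹ = s ∨ g * s * g⁻¹ = s * z
  T_noncomm : ∃ s ∈ T, ∃ t ∈ T, s * t * s⁻¹ = t * z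
  faithful : ∀ g : G, Commute z g → (∀ a ∈ coreAt z, ⁅g, a⁆ ∈ zpowers z) → g ∈ coreAt z
  five : ∀ a ∈ coreAt z, a ∉ T → a * a = 1 → (∀ t ∈ T, Commute t a) →
    ∃ r : G, Commute z r ∧ Commute a r ∧ r ^ 5 = 1 ∧ r ≠ 1
  five_fix : ∀ r : G, Commute z r → r ^ 5 = 1 → r ≠ 1 →
    32 ≤ Nat.card ↥(coreAt z ⊓ centralizer ({r} : Set G))
  five_triv : ∀ a ∈ coreAt z, a ∉ T → a * a = 1 → (∀ t ∈ T, Commute t a) →
    ∀ r : G, Commute z r → Commute a r → r ^ 5 = 1 → r ≠ 1 →
    ∀ e : G, Commute z e → Commute r e → Commute a e → e ^ 4 = 1 → e ∈ coreAt z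
  five_elem : ∀ r : G, Commute z r → r ^ 5 = 1 → r ≠ 1 → ∀ W : Subgroup G, W ≤ coreAt z →
    (∀ w ∈ W, w * w = 1 ∧ Commute r w) → Nat.card W ≤ 8
  two : ∀ a ∈ coreAt z, a ∉ T → a * a = 1 → ∃ g h : G, Commute z g ∧ Commute z h ∧
    Commute a (g * a * g⁻¹) ∧ Commute a (h * a * h⁻¹) ∧ ¬ Commute (g * a * g⁻¹) (h * a * h⁻¹) ∧
    (∀ t ∈ T, g * t * g⁻¹ = t ∨ g * t * g⁻¹ = t * z) ∧ ∀ t ∈ T, h * t * h⁻¹ = t ∨ h * t * h⁻¹ = t * z
  wit : ∀ u : G, Commute z u → u * u = 1 → u ∉ coreAt z →
    (∀ a ∈ coreAt z, ⁅u, a⁆ * ⁅u, a⁆ = 1 → ⁅u, a⁆ ∈ zpowers z) →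
    (∃ w ∈ coreAt z, Commute u w ∧ w * w = z) ∧ ∀ w : G, Commute z w → w * w * u ∉ coreAt z

namespace Red

variable {G : Type*} [Group G] {z : G}

theorem mem_map_iff {H : Subgroup G} {g a : G} :
    MulAut.conj g a ∈ H.map (MulAut.conj g).toMonoidHom ↔ a ∈ H :=
  mem_map_iff_mem (MulAut.conj g).injective

/-- The facts at a conjugate. -/
def conj [Finite G] (R : Red z) (g : G) : Red (g * z * g⁻¹) where
  xs := by rw [coreAt_conj]; exact R.xs.conj g
  card := by rw [coreAt_conj, card_map_of_injective (MulAut.conj g).injective, R.card]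
  T := R.T.map (MulAut.conj g).toMonoidHom
  T_le := by rw [coreAt_conj]; exact map_mono R.T_le
  z_mem := ⟨z, R.z_mem, rfl⟩
  T_norm := by
    rintro _ ⟨t, ht, rfl⟩ w hw
    obtain ⟨k, rfl⟩ := (MulAut.conj g).surjective w
    exact ⟨k * t * k⁻¹, R.T_norm t ht k (Commute.of_map (f := (MulAut.conj g).toMonoidHom) (MulAut.conj g).injective hw),
      by rw [MulEquiv.coe_toMonoidHom, map_mul, map_mul, map_inv]⟩
  T_sq := by
    rintro _ ⟨t, ht, rfl⟩ w hw
    obtain ⟨k, rfl⟩ := (MulAut.conj g).surjective w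
    have hk : Commute z k := Commute.of_map (f := (MulAut.conj g).toMonoidHom) (MulAut.conj g).injective hw
    change MulAut.conj g k * MulAut.conj g t * (MulAut.conj g k)⁻¹ = MulAut.conj g t ∨
      MulAut.conj g k * MulAut.conj g t * (MulAut.conj g k)⁻¹ = MulAut.conj g t * MulAut.conj g z ∨
      MulAut.conj g k * MulAut.conj g t * (MulAut.conj g k)⁻¹ * (MulAut.conj g t)⁻¹ *
        (MulAut.conj g k * MulAut.conj g t * (MulAut.conj g k)⁻¹ * (MulAut.conj g t)⁻¹) = MulAut.conj g z
    simp only [← map_inv, ← map_mul]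
    exact (R.T_sq t ht k hk).imp (congrArg _) (Or.imp (congrArg _) (congrArg _))
  T_one := by
    intro w hw
    obtain ⟨k, rfl⟩ := (MulAut.conj g).surjective w
    have hk : Commute z k := Commute.of_map (f := (MulAut.conj g).toMonoidHom) (MulAut.conj g).injective hw
    rintro _ ⟨t, ht, rfl⟩ h1 hz h2 he _ ⟨s, hs, rfl⟩
    change MulAut.conj g k * MulAut.conj g t * (MulAut.conj g k)⁻¹ = MulAut.conj g t ∨
      MulAut.conj g k * MulAut.conj g t * (MulAut.conj g k)⁻¹ = MulAut.conj g t * MulAut.conj g z at he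
    change MulAut.conj g k * MulAut.conj g s * (MulAut.conj g k)⁻¹ = MulAut.conj g s ∨
      MulAut.conj g k * MulAut.conj g s * (MulAut.conj g k)⁻¹ = MulAut.conj g s * MulAut.conj g z
    simp only [← map_inv, ← map_mul] at he ⊢
    exact (R.T_one k hk t ht (fun h => h1 (by rw [h, map_one])) (fun h => hz (by rw [h]; rfl))
      ((MulAut.conj g).injective (by rw [map_mul, map_one]; exact h2))
      (he.imp (fun h => (MulAut.conj g).injective h) (fun h => (MulAut.conj g).injective h)) s hs).imp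
      (congrArg _) (congrArg _)
  T_noncomm := by
    obtain ⟨s, hs, t, ht, e⟩ := R.T_noncomm
    refine ⟨_, ⟨s, hs, rfl⟩, _, ⟨t, ht, rfl⟩, ?_⟩
    show MulAut.conj g s * MulAut.conj g t * (MulAut.conj g s)⁻¹ = MulAut.conj g t * MulAut.conj g z
    rw [← map_inv, ← map_mul, ← map_mul, ← map_mul, e]
  faithful := by
    intro w hw h
    obtain ⟨k, rfl⟩ := (MulAut.conj g).surjective w
    rw [coreAt_conj] at h ⊢
    refine mem_map_iff.2 (R.faithful k (Commute.of_map (f := (MulAut.conj g).toMonoidHom) (MulAut.conj g).injective hw)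
      fun a ha => ?_)
    have h1 := h _ (mem_map_iff.2 ha)
    rw [← map_commutatorElement, show g * z * g⁻¹ = (MulAut.conj g).toMonoidHom z from rfl,
      ← MonoidHom.map_zpowers] at h1
    exact mem_map_iff.1 h1
  five := by
    rw [coreAt_conj]
    rintro _ ⟨a, ha, rfl⟩ hT h2 hc
    obtain ⟨r, h1, h3, h4, h5⟩ := R.five a ha (fun h => hT ⟨a, h, rfl⟩)
      ((MulAut.conj g).injective (by rw [map_mul, map_one]; exact h2))
      (fun t ht => Commute.of_map (f := (MulAut.conj g).toMonoidHom) (MulAut.conj g).injective (hc _ ⟨t, ht, rfl⟩))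
    exact ⟨MulAut.conj g r, h1.map (MulAut.conj g), h3.map (MulAut.conj g), by rw [← map_pow, h4, map_one],
      fun h => h5 ((MulAut.conj g).injective (h.trans (map_one _).symm))⟩
  five_fix := by
    intro w hw h5 h1
    obtain ⟨r, rfl⟩ := (MulAut.conj g).surjective w
    have hr : Commute z r := Commute.of_map (f := (MulAut.conj g).toMonoidHom) (MulAut.conj g).injective hw
    refine (R.five_fix r hr ((MulAut.conj g).injective (by rw [map_pow, map_one]; exact h5))
      (fun h => h1 (by rw [h, map_one]))).trans ?_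
    rw [← card_map_of_injective (f := (MulAut.conj g).toMonoidHom) (MulAut.conj g).injective]
    refine card_le_of_le ?_
    rw [coreAt_conj]
    rintro _ ⟨a, ha, rfl⟩
    exact ⟨mem_map_iff.2 ha.1,
      mem_centralizer_one.2 ((show Commute a r from mem_centralizer_one.1 ha.2).map (MulAut.conj g))⟩
  five_triv := by
    rw [coreAt_conj]
    rintro _ ⟨a, ha, rfl⟩ hT h2 hc w hw haw h5 h1 v hv hrv hav h4
    obtain ⟨r, rfl⟩ := (MulAut.conj g).surjective w
    obtain ⟨e, rfl⟩ := (MulAut.conj g).surjective v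
    have cm : ∀ {x y : G}, Commute (MulAut.conj g x) (MulAut.conj g y) → Commute x y := fun h =>
      Commute.of_map (f := (MulAut.conj g).toMonoidHom) (MulAut.conj g).injective h
    exact mem_map_iff.2 (R.five_triv a ha (fun h => hT ⟨a, h, rfl⟩)
      ((MulAut.conj g).injective (by rw [map_mul, map_one]; exact h2)) (fun t ht => cm (hc _ ⟨t, ht, rfl⟩))
      r (cm hw) (cm haw) ((MulAut.conj g).injective (by rw [map_pow, map_one]; exact h5))
      (fun h => h1 (by rw [h, map_one])) e (cm hv) (cm hrv) (cm hav)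
      ((MulAut.conj g).injective (by rw [map_pow, map_one]; exact h4)))
  five_elem := by
    intro w hw h5 h1 W hW hWs
    obtain ⟨r, rfl⟩ := (MulAut.conj g).surjective w
    have hle : (W.comap (MulAut.conj g).toMonoidHom).map (MulAut.conj g).toMonoidHom = W :=
      map_comap_eq_self_of_surjective (MulAut.conj g).surjective W
    rw [← hle, card_map_of_injective (MulAut.conj g).injective]
    refine R.five_elem r (Commute.of_map (f := (MulAut.conj g).toMonoidHom) (MulAut.conj g).injective hw)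
      ((MulAut.conj g).injective (by rw [map_pow, map_one]; exact h5)) (fun h => h1 (by rw [h, map_one])) _
      (fun a ha => ?_) fun a ha => ⟨(MulAut.conj g).injective (by rw [map_mul, map_one]; exact (hWs _ ha).1),
        Commute.of_map (f := (MulAut.conj g).toMonoidHom) (MulAut.conj g).injective (hWs _ ha).2⟩
    rw [coreAt_conj] at hW
    exact mem_map_iff.1 (hW ha)
  two := by
    rw [coreAt_conj]
    rintro _ ⟨a, ha, rfl⟩ hT h2
    obtain ⟨x, y, hx, hy, h3, h4, h5, h6, h7⟩ := R.two a ha (fun h => hT ⟨a, h, rfl⟩)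
      ((MulAut.conj g).injective (by rw [map_mul, map_one]; exact h2))
    have e : ∀ k : G, MulAut.conj g k * MulAut.conj g a * (MulAut.conj g k)⁻¹ =
        MulAut.conj g (k * a * k⁻¹) := fun k => by rw [map_mul, map_mul, map_inv]
    refine ⟨MulAut.conj g x, MulAut.conj g y, hx.map (MulAut.conj g), hy.map (MulAut.conj g), ?_, ?_, ?_, ?_, ?_⟩
    · show Commute (MulAut.conj g a) (MulAut.conj g x * MulAut.conj g a * (MulAut.conj g x)⁻¹)
      rw [e]; exact h3.map (MulAut.conj g)
    · show Commute (MulAut.conj g a) (MulAut.conj g y * MulAut.conj g a * (MulAut.conj g y)⁻¹)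
      rw [e]; exact h4.map (MulAut.conj g)
    · show ¬ Commute (MulAut.conj g x * MulAut.conj g a * (MulAut.conj g x)⁻¹)
        (MulAut.conj g y * MulAut.conj g a * (MulAut.conj g y)⁻¹)
      rw [e, e]
      exact fun h => h5 (Commute.of_map (f := (MulAut.conj g).toMonoidHom) (MulAut.conj g).injective h)
    · rintro _ ⟨t, ht, rfl⟩
      change MulAut.conj g x * MulAut.conj g t * (MulAut.conj g x)⁻¹ = MulAut.conj g t ∨
        MulAut.conj g x * MulAut.conj g t * (MulAut.conj g x)⁻¹ = MulAut.conj g t * MulAut.conj g z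
      simp only [← map_inv, ← map_mul]
      exact (h6 t ht).imp (congrArg _) (congrArg _)
    · rintro _ ⟨t, ht, rfl⟩
      change MulAut.conj g y * MulAut.conj g t * (MulAut.conj g y)⁻¹ = MulAut.conj g t ∨
        MulAut.conj g y * MulAut.conj g t * (MulAut.conj g y)⁻¹ = MulAut.conj g t * MulAut.conj g z
      simp only [← map_inv, ← map_mul]
      exact (h7 t ht).imp (congrArg _) (congrArg _)
  wit := by
    intro w hw h2 hJ hno
    obtain ⟨u, rfl⟩ := (MulAut.conj g).surjective w
    rw [coreAt_conj] at hJ hno ⊢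
    obtain ⟨⟨k, hk, hku, hkz⟩, hsq⟩ := R.wit u
      (Commute.of_map (f := (MulAut.conj g).toMonoidHom) (MulAut.conj g).injective hw)
      ((MulAut.conj g).injective (by rw [map_mul, map_one]; exact h2)) (fun h => hJ (mem_map_iff.2 h))
      (fun a ha h => by
        have h1 := hno _ (mem_map_iff.2 ha) (by rw [← map_commutatorElement, ← map_mul, h, map_one])
        rw [← map_commutatorElement, show g * z * g⁻¹ = (MulAut.conj g).toMonoidHom z from rfl,
          ← MonoidHom.map_zpowers] at h1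
        exact mem_map_iff.1 h1)
    refine ⟨⟨MulAut.conj g k, mem_map_iff.2 hk, hku.map (MulAut.conj g), by rw [← map_mul, hkz]; rfl⟩,
      fun v hv h => ?_⟩
    obtain ⟨y, rfl⟩ := (MulAut.conj g).surjective v
    rw [← map_mul, ← map_mul] at h
    exact hsq y (Commute.of_map (f := (MulAut.conj g).toMonoidHom) (MulAut.conj g).injective hv)
      (mem_map_iff.1 h)

end Red

end Cfsg.Agent.U62Aut
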